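import Cfsg.Agent.Lib.Sp4O.Cl

/-!
# The additive group of a finite field in `Sp₄` in cross characteristic
-/

set_option autoImplicit false

namespace Cfsg.Lib.Sp4O

open Module Matrix Finset

variable {K L F : Type*} [Field K] [Fintype K] [Field L] [Field F]

theorem card_of_char {ψ : AddChar K L} (hψ : ψ.IsPrimitive) (hr : (Fintype.card K : L) ≠ 0)
    (hK : Odd (Fintype.card K)) (h3 : 3 < Fintype.card K) {u : K → M4 L}
    (hadd : ∀ s t, u (s + t) = u s * u t) (h0 : u 0 = 1) (had : ∀ t, ad (u t) = u (-t)) {t₀ : K}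
    (h1 : u t₀ ≠ 1) (hd : ∀ a ≠ 0, ∃ d : M4 L, IsUnit d ∧ ∀ t, d * u t = u (a ^ 2 * t) * d) :
    Fintype.card K = 5 ∨ Fintype.card K = 9 := by
  classical
  let e : K → M4 L := fun c => ∑ t, ψ (t * -c) • u t
  have e1 : ∀ s c, u s * e c = ψ (s * c) • e c := fun s c => by
    simp only [e, mul_sum, smul_sum, mul_smul_comm, ← hadd, smul_smul, ← ψ.map_add_eq_mul]
    exact Fintype.sum_equiv (Equiv.addLeft s) _ _ fun t => by simp; ring_nf
  have e2 : ∀ c c', e c * e c' = (if c' - c = 0 then Fintype.card K else 0 : ℕ) • e c' :=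
    fun c c' => by
      rw [← Nat.cast_smul_eq_nsmul L, ← AddChar.sum_mulShift _ hψ, sum_smul, sum_mul]
      refine sum_congr rfl fun t _ => ?_
      rw [smul_mul_assoc, e1, smul_smul, ← ψ.map_add_eq_mul]; ring_nf
  have e3 : ∑ c, e c = (Fintype.card K : L) • 1 := by
    rw [sum_comm, sum_eq_single 0, ← sum_smul, h0]
    · simp
    · intro t _ ht
      have := AddChar.sum_mulShift (-t) hψ
      rw [if_neg (neg_ne_zero.2 ht), Nat.cast_zero] at this
      rw [← sum_smul, show ∑ c, ψ (t * -c) = 0 from by rw [← this]; congr; ext; ring_nf, zero_smul]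
    · simp
  let X : Finset K := {c | e c ≠ 0}
  have hX : #X ≤ 4 := by
    have hw : ∀ c : X, ∃ w, e c *ᵥ w ≠ 0 := fun c => by
      by_contra! hc
      exact (mem_filter.1 c.2).2 (ext_iff_mulVec.2 (by simpa using hc))
    choose w hw using hw
    have li : LinearIndependent L fun c : X => e c *ᵥ w c := Fintype.linearIndependent_iff.2
      fun g hg c => by
        have := congrArg (e c *ᵥ ·) hg
        simp only [mulVec_sum, mulVec_smul, mulVec_mulVec, e2, mulVec_zero] at this
        rw [sum_eq_single c, if_pos (sub_self _), ← Nat.cast_smul_eq_nsmul L, smul_mulVec] at this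
        · simpa [hr, hw c] using this
        · intro b _ hb
          rw [if_neg fun h => hb (Subtype.ext (sub_eq_zero.1 h))]; simp
        · simp
    simpa using li.fintype_card_le_finrank
  obtain ⟨c, hc, c0⟩ : ∃ c, e c ≠ 0 ∧ c ≠ 0 := by
    by_contra! hc
    rw [sum_eq_single 0 (fun c _ h => by_contra fun h' => h (hc c h')) (by simp)] at e3
    have := e1 t₀ 0
    rw [e3] at this
    exact h1 (smul_right_injective _ hr (by simpa using this))
  have hn : ∀ c, e c ≠ 0 → e (-c) ≠ 0 := fun c hc h => hc (by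
    have : ∀ s : Finset K, ad (∑ t ∈ s, ψ (t * - -c) • u t) = ∑ t ∈ s, ψ (t * c) • u (-t) :=
      fun s => by
        induction s using Finset.induction_on with
        | empty => simp [ad]
        | insert a s ha ih => rw [sum_insert ha, sum_insert ha, ad_add, ih, ad_smul, had, neg_neg]
    have h2 := this univ
    rw [show ∑ t, ψ (t * - -c) • u t = 0 from h, show ad (0 : M4 L) = 0 by simp [ad]] at h2
    rw [h2]
    exact Fintype.sum_equiv (Equiv.neg K) _ _ fun t => by simp)
  have hs : ∀ a ≠ 0, e (c * a ^ 2) ≠ 0 := fun a ha h => hc (by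
    obtain ⟨d, h2, h4⟩ := hd a⁻¹ (inv_ne_zero ha)
    refine h2.mul_right_eq_zero.1 ?_
    have : d * e c = e (c * a ^ 2) * d := by
      simp only [e, mul_sum, sum_mul, mul_smul_comm, smul_mul_assoc, h4]
      refine Fintype.sum_equiv (Equiv.mulLeft₀ _ (pow_ne_zero 2 (inv_ne_zero ha))) _ _ fun t => ?_
      simp only [Equiv.mulLeft₀_apply]
      congr 2; field_simp
    rw [this, h, zero_mul])
  let Y := (univ.erase (0 : K)).image fun a => c * a ^ 2
  have hY : Fintype.card K - 1 ≤ 2 * #Y := by
    rw [← card_univ, ← card_erase_of_mem (mem_univ (0 : K))]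
    refine card_le_mul_card_image _ 2 fun y hy => ?_
    obtain ⟨b, -, rfl⟩ := mem_image.1 hy
    refine (card_le_card (t := {b, -b}) fun a ha => ?_).trans card_le_two
    simpa [c0, sq_eq_sq_iff_eq_or_eq_neg] using (mem_filter.1 ha).2
  have hYX : Y ⊆ X := fun y hy => by
    obtain ⟨b, hb, rfl⟩ := mem_image.1 hy
    simpa [X] using hs b (mem_erase.1 hb).1
  have := card_le_card hYX
  obtain ⟨k, hk⟩ := hK
  by_cases h7 : IsSquare (-1 : K)
  · rw [FiniteField.isSquare_neg_one_iff] at h7
    omega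
  have hdj : Disjoint Y (Y.image Neg.neg) := disjoint_left.2 fun y hy hy' => by
    obtain ⟨z, hz, rfl⟩ := mem_image.1 hy'
    obtain ⟨a, ha, rfl⟩ := mem_image.1 hz
    obtain ⟨b, -, h⟩ := mem_image.1 hy
    have := (mem_erase.1 ha).1
    have h : b ^ 2 = -a ^ 2 := mul_left_cancel₀ c0 (by linear_combination h)
    exact h7 ⟨b / a, by field_simp; linear_combination -h⟩
  have h5 := card_le_card (union_subset hYX (show Y.image Neg.neg ⊆ X from fun y hy => by
    obtain ⟨z, hz, rfl⟩ := mem_image.1 hy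
    simpa [X] using hn z (by simpa [X] using hYX hz)))
  rw [card_union_of_disjoint hdj, card_image_of_injective _ neg_injective] at h5
  omega

theorem card_of_cross (hc : ringChar F ≠ ringChar K)
    (hK : Odd (Fintype.card K)) (h3 : 3 < Fintype.card K) {u : K → M4 F}
    (hadd : ∀ s t, u (s + t) = u s * u t) (h0 : u 0 = 1) (had : ∀ t, ad (u t) = u (-t)) {t₀ : K}
    (h1 : u t₀ ≠ 1) (hd : ∀ a ≠ 0, ∃ d : GL I4 F, ∀ t, d.1 * u t = u (a ^ 2 * t) * d.1) :
    Fintype.card K = 5 ∨ Fintype.card K = 9 := by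
  let ψ := AddChar.FiniteField.primitiveChar K F hc
  let f := (algebraMap F (CyclotomicField ψ.n F)).mapMatrix (m := I4)
  have hf : Function.Injective f := map_injective (algebraMap F _).injective
  refine card_of_char ψ.prim ?_ hK h3 (u := fun t => f (u t)) (by simp [hadd]) (by simp [h0])
    (fun t => ?_) (t₀ := t₀) (fun e => h1 (hf (e.trans f.map_one.symm))) fun a ha => ?_
  · rw [← map_natCast (algebraMap F _), map_ne_zero]
    obtain ⟨n, hp, hn⟩ := FiniteField.card K (ringChar K)
    rw [hn, Nat.cast_pow, Ne, pow_eq_zero_iff n.ne_zero, ringChar.spec]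
    intro e
    rcases CharP.char_is_prime_or_zero F (ringChar F) with hq | hq
    · exact hc ((Nat.prime_dvd_prime_iff_eq hq hp).1 e)
    · exact hp.ne_zero (by simpa [hq] using e)
  · rw [← had, ad, ad, map_neg, map_mul, map_mul]
    simp [f, transpose_map]
  · obtain ⟨d, h⟩ := hd a ha
    exact ⟨f d.1, d.isUnit.map f, fun t => by rw [← map_mul, h, map_mul]⟩

end Cfsg.Lib.Sp4O
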