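import Cfsg.Agent.Lib.OMax.ReflDick
import Cfsg.Agent.Lib.PSL2.Sub

/-!
# Irreducible reflection groups with a large short root subgroup contain `Ω`
-/

set_option autoImplicit false

namespace Cfsg.Lib.Sp4O

open QuadraticMap Module Cfsg.Lib.Orth Matrix Cfsg.Lib.PSL2 Cfsg.Lib.OMax
open scoped MatrixGroups

variable {F V : Type*} [Field F] [AddCommGroup V] [Module F V] {Q : QuadraticForm F V}
  {K : Subgroup (O Q)}

theorem half_mem [Finite F] (h2 : (2 : F) ≠ 0) {S : AddSubgroup V} {w : V}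
    (h : (2 : F) • w ∈ S) : w ∈ S := by
  obtain ⟨p, hp⟩ := CharP.exists F
  obtain ⟨m, hm⟩ := (CharP.char_is_prime F p).odd_of_ne_two (by
    rintro rfl; exact h2 (by simpa using CharP.cast_eq_zero F 2))
  have h1 : ((m + 1 : ℕ) : F) * 2 = 1 := by
    have := CharP.cast_eq_zero F p
    rw [hm] at this; push_cast at this ⊢; linear_combination this
  have := nsmul_mem h (m + 1)
  rwa [← Nat.cast_smul_eq_nsmul F, smul_smul, h1, one_smul] at this

theorem swap_eq {e f z : V} (h : IsHyp Q e f) (hz : z ∈ hperp Q e f) (h0 : Q z ≠ 0) {a : F}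
    (ha : a ≠ 0) : eich Q e ((a * Q z)⁻¹ • z) * eich Q f (a • z) * eich Q e ((a * Q z)⁻¹ • z) =
      refl Q ((1 : F) • e + (a ^ 2 * Q z) • f) * refl Q z := by
  obtain ⟨h1, h2⟩ := mem_hperp.1 hz
  have h3 : polar Q e ((a * Q z)⁻¹ • z) = 0 := by simp [h1]
  have h4 : polar Q f (a • z) = 0 := by simp [h2]
  have h5 : a ^ 2 * Q z ≠ 0 := mul_ne_zero (pow_ne_zero 2 ha) h0
  refine h.ext ?_ ?_ fun w hw => ?_
  · rw [O.mul_apply, eich_apply_self h.left h3, h.swap_apply hz h0 ha, O.mul_apply,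
      refl_apply_of_perp ((polar_comm Q z e).trans h1), h.refl_comb_left one_ne_zero h5, div_one]
  · rw [O.mul_apply (refl Q _), refl_apply_of_perp ((polar_comm Q z f).trans h2),
      h.refl_comb_right one_ne_zero h5]
    simp only [O.mul_apply, eich_apply h.left h3, eich_apply h.right h4, polar_sub_right,
      polar_add_right, polar_smul_right', polar_smul_left', polar_self', Q_smul, polar_comm Q z e,
      polar_comm Q z f, h1, h2, h.left, h.right, h.polar_eq, h.polar_eq']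
    match_scalars <;> field_simp <;> ring
  · obtain ⟨h6, h7⟩ := mem_hperp.1 hw
    rw [O.mul_apply (refl Q _), refl_comb_apply_of_hperp (by
      rw [refl_apply]; exact sub_mem hw (Submodule.smul_mem _ _ hz)), refl_apply]
    simp only [O.mul_apply, eich_apply h.left h3, eich_apply h.right h4, polar_sub_right,
      polar_add_right, polar_smul_right', polar_smul_left', polar_self', Q_smul, polar_comm Q z e,
      polar_comm Q z f, h1, h2, h6, h7, h.left, h.right, h.polar_eq, h.polar_eq']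
    match_scalars <;> field_simp <;> ring

section Tri
variable {U : Submodule F V} {e f z : V} (T : Tri Q U e f z) (h2 : (2 : F) ≠ 0)
include T h2

theorem up_conj (c : F) {x : V} (hx : x ∈ U) : !![1, c; 0, 1] * iota Q e f z x =
    iota Q e f z ((eich Q e ((-c) • z)).1 x) * !![1, c; 0, 1] := by
  obtain ⟨a, b, d, rfl⟩ := T.exists_comb hx
  obtain ⟨h1, h3⟩ := mem_hperp.1 T.perp
  have h4 := T.polar_comb 1 0 0 a b d
  have h5 := T.polar_comb 0 0 1 a b d
  simp only [one_smul, zero_smul, add_zero, zero_add] at h4 h5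
  have : (eich Q e ((-c) • z)).1 (a • e + b • f + d • z) =
      (a - 2 * c * d * Q z - c ^ 2 * Q z * b) • e + b • f + (d + b * c) • z := by
    rw [eich_apply T.hyp.left (by simp [h1]), polar_smul_left', h4, h5, Q_smul]; module
  rw [this, T.iota_comb h2, T.iota_comb h2]
  ext i j; fin_cases i <;> fin_cases j <;> simp <;> ring

theorem up_mem {c : F} (h : c • z ∈ AE K e) :
    aff 1 c ∈ (Tri.lift K U e f z).map ProjGenLinGroup.mk :=
  ⟨gl2 1 c 0 1 (by simp), ⟨_, by simpa using (neg_mem h).2, 1, one_mul _, eich_sub_mem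
    (by simpa using T.comb_mem 1 0 0) (by simpa using T.comb_mem 0 0 (-c)), fun x hx => by
      simpa using up_conj T h2 c hx⟩, rfl⟩

theorem lo_mem {a : F} (h : a • z ∈ AE K f) :
    ProjGenLinGroup.mk (gl2 1 0 (a * Q z) 1 (by simp)) ∈
      (Tri.lift K U e f z).map ProjGenLinGroup.mk := by
  refine ⟨_, ⟨_, h.2, 1, one_mul _, eich_sub_mem (by simpa using T.comb_mem 0 1 0)
    (by simpa using T.comb_mem 0 0 a), fun x hx => ?_⟩, rfl⟩
  obtain ⟨a', b, d, rfl⟩ := T.exists_comb hx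
  have h4 := T.polar_comb 0 1 0 a' b d
  have h5 := T.polar_comb 0 0 1 a' b d
  simp only [one_smul, zero_smul, add_zero, zero_add] at h4 h5
  have : (eich Q f (a • z)).1 (a' • e + b • f + d • z) =
      a' • e + (b + 2 * a * d * Q z - a ^ 2 * Q z * a') • f + (d - a' * a) • z := by
    rw [eich_apply T.hyp.right h.1, polar_smul_left', h4, h5, Q_smul]; module
  rw [this, T.iota_comb h2, T.iota_comb h2]
  ext i j; fin_cases i <;> fin_cases j <;> simp <;> ring

theorem of_aff [Finite F] (hQ : ND Q) {c : F}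
    (h : aff 1 c ∈ (Tri.lift K U e f z).map ProjGenLinGroup.mk) : c • z ∈ AE K e := by
  obtain ⟨M, ⟨g, hg, ε, e1, e2, e3⟩, hM⟩ := h
  obtain ⟨u, hu, a1, a2, a3, a4⟩ := (pgl_mk_eq_mk_iff _ _).1 hM.symm
  have hM' : M.1 = u • !![1, c; 0, 1] := by
    ext i j; fin_cases i <;> fin_cases j <;> simp [gl2] at a1 a2 a3 a4 ⊢ <;> assumption
  obtain ⟨h1, h3⟩ := mem_hperp.1 T.perp
  have h4 : polar Q e ((-c) • z) = 0 := by simp [h1]
  have heU : e ∈ U := by simpa using T.comb_mem 1 0 0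
  have hzU : ∀ t : F, t • z ∈ U := fun t => by simpa using T.comb_mem 0 0 t
  have h5 : ∀ x ∈ U, g.1 x = ε • (eich Q e ((-c) • z)).1 x := fun x hx => by
    refine T.inj h2 (by simpa using add_mem (e2 x) hx)
      (U.smul_mem _ (eich_apply_mem heU (hzU _) hx)) ?_
    have := e3 x hx
    rw [hM', smul_mul_assoc, up_conj T h2 c hx, mul_smul_comm] at this
    have h6 := congrArg (fun A => (ε * u⁻¹) • A * !![1, -c; 0, 1]) this
    have h7 : !![1, c; 0, 1] * !![1, -c; 0, 1] = (1 : Matrix (Fin 2) (Fin 2) F) := by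
      ext i j; fin_cases i <;> fin_cases j <;> simp
    simp only [smul_mul_assoc, mul_assoc, h7, mul_one, smul_smul, inv_mul_cancel₀ hu,
      mul_left_comm u⁻¹ u, mul_inv_cancel_left₀ hu, e1, one_smul] at h6
    rw [map_smul, h6]
  have h6 : ∀ x ∈ U, (g * g).1 x = (eich Q e ((-c) • z + (-c) • z)).1 x := fun x hx => by
    rw [eich_add T.hyp.left h4 h4, O.mul_apply, O.mul_apply, h5 x hx, map_smul,
      h5 _ (eich_apply_mem heU (hzU _) hx), smul_smul, e1, one_smul]
  have h7 : g * g = eich Q e ((-c) • z + (-c) • z) := by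
    refine T.hyp.ext (h6 e heU) (h6 f (by simpa using T.comb_mem 0 1 0)) fun w hw => ?_
    obtain ⟨y, hy⟩ : ∃ y, y = w - (polar Q z w / (2 * Q z)) • z := ⟨_, rfl⟩
    have b1 : ∀ x ∈ U, polar Q x y = 0 := fun x hx => by
      obtain ⟨a, b, d, rfl⟩ := T.exists_comb hx
      have := T.ne
      simp only [hy, polar_add_left, polar_smul_left', polar_sub_right, polar_smul_right', h1, h3,
        mem_hperp.1 hw, polar_self']
      field_simp; ring
    have b2 : g.1 y = y := hQ.ext fun v => by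
      have := b1 _ (show (g⁻¹).1 v - v ∈ U by simpa using neg_mem (e2 ((g⁻¹).1 v)))
      rwa [polar_comm, polar_sub_right, sub_eq_zero, ← O.polar_left] at this
    rw [eq_add_of_sub_eq hy.symm, map_add, map_add, h6 _ (hzU _), O.mul_apply, b2, b2,
      eich_apply_of_perp T.hyp.left (by simp [h1]) (b1 e heU), b1 _ (add_mem (hzU _) (hzU _)),
      zero_smul, add_zero]
  have h8 : (-c) • z + (-c) • z ∈ AE K e := ⟨by simp [h1], h7 ▸ mul_mem hg hg⟩
  exact half_mem h2 (by convert neg_mem h8 using 1; module)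

omit T h2 in
set_option synthInstance.maxSize 1000 in
theorem sq_eq_of_alt (h3 : (3 : F) = 0) {H : Subgroup PGL(2, F)}
    (E : H ≃* alternatingGroup (Fin 5)) (h1 : aff 1 1 ∈ H) {c : F} (hc : aff 1 c ∈ H)
    (h0 : c ≠ 0) : c ^ 2 = 1 := by
  have key : ∀ x y : alternatingGroup (Fin 5), x ≠ 1 → x * x * x = 1 → x * y = y * x →
      y = 1 ∨ y = x ∨ y * x = 1 := by decide +kernel
  have := key (E ⟨_, h1⟩) (E ⟨_, hc⟩)
  simp only [← map_mul, Ne, EmbeddingLike.map_eq_one_iff, EmbeddingLike.apply_eq_iff_eq,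
    Subtype.ext_iff, Subgroup.coe_mul, Subgroup.coe_one, aff_mul, aff_eq_one_iff, aff_inj] at this
  rcases this (by simp) (by simp; linear_combination h3) (by simp [add_comm]) with h | h | h
  · exact (h0 h.2).elim
  · simp [h.2]
  · simp [show c = -1 by simp at h; linear_combination h]

/-- Two opposite root subgroups of a three-space. -/
theorem pair [Finite F] (hQ : ND Q) {ν : F} (hν : ν ≠ 0)
    (hf : ∀ c : F, c • z ∈ AE K e → (ν * c) • z ∈ AE K f) (hz : z ∈ AE K e) {s : F}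
    (hs : s • z ∈ AE K e) (h0 : s ≠ 0) (h1 : s ^ 2 ≠ 1) :
    ∃ k : Subfield F, (∀ c, c ∈ k ↔ c • z ∈ AE K e) ∧ ν * Q z ∈ k := by
  obtain ⟨p, hp⟩ := CharP.exists F
  have : Fact p.Prime := ⟨CharP.char_is_prime F p⟩
  have ha := up_mem T h2 (K := K) (c := 1) (by simpa)
  have hl := fun c hc => lo_mem T h2 (hf c hc)
  have hn := mul_ne_zero hν T.ne
  rcases dickson_pgl_unip (AlgebraicClosure F) p ((Tri.lift K U e f z).map ProjGenLinGroup.mk)
    (x := inf) (fun h => by
      simpa [aff_eq_one_iff] using h.le ⟨ha, aff_mem_unip_inf.2 rfl⟩) with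
    h | ⟨rfl, -⟩ | ⟨rfl, ⟨E⟩⟩ | h
  · have := (gl_smul_inf_eq_inf _).1 (h (hl 1 (by simpa)))
    exact absurd (by simpa [gl2] using this) hn
  · exact (h2 (by simpa using CharP.cast_eq_zero F 2)).elim
  · exact (h1 (sq_eq_of_alt (by simpa using CharP.cast_eq_zero F 3) E ha
      (up_mem T h2 hs) h0)).elim
  obtain ⟨k, c, hk, h4, h5⟩ := isSubfieldType_iff.1 h
  have h6 : ∀ g ∈ (Tri.lift K U e f z).map ProjGenLinGroup.mk, tau g ∈ k := fun g hg => by
    rcases h5 with h5 | h5 <;> rw [h5] at hg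
    · obtain ⟨x, -, rfl⟩ := hg; simp [tau_subHom]
    · obtain ⟨x, rfl⟩ := hg; simp [tau_subHom]
  have h7 : ∀ c : F, c • z ∈ AE K e → (2 + ν * c * Q z) ^ 2 ∈ k := fun c hc => by
    convert h6 _ (mul_mem ha (hl c hc)) using 1
    rw [aff, ← map_mul, tau_mk']
    simp [gl2, trace_fin_two, det_fin_two]; ring
  have h8 : ∀ c : F, c • z ∈ AE K e → ν * Q z * c ∈ k := fun c hc => by
    have := div_mem (sub_mem (h7 c hc) (h7 (-c) (by simpa using neg_mem hc))) (natCast_mem k 8)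
    convert this using 1
    have : (8 : F) ≠ 0 := fun h => pow_ne_zero 3 h2 (by linear_combination h)
    push_cast; field_simp; ring
  have h9 := h8 1 (by simpa)
  rw [mul_one] at h9
  have h10 : (transl ((Tri.lift K U e f z).map ProjGenLinGroup.mk) : Set F) = k :=
    Set.eq_of_subset_of_ncard_le (fun c hc => by
      simpa [hν, T.ne] using div_mem (h8 c (of_aff T h2 hQ hc)) h9)
      (by rw [← Nat.card_coe_set_eq, ← Nat.card_coe_set_eq]; exact (h4.trans (card_transl _).symm).le)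
  exact ⟨k, fun c => ⟨fun hc => of_aff T h2 hQ (h10.ge hc), fun hc => h10.le (up_mem T h2 hc)⟩, h9⟩

end Tri

/-- An irreducible class of reflections of norm one, not defined over a proper subfield. -/
structure RK (K : Subgroup (O Q)) (Φ : Set V) : Prop where
  nd : ND Q
  two : (2 : F) ≠ 0
  Q_eq : ∀ w ∈ Φ, Q w = 1
  mem : ∀ w ∈ Φ, refl Q w ∈ K
  inv : ∀ g ∈ K, ∀ w ∈ Φ, g.1 w ∈ Φ
  irr : ∀ M : Submodule F V, (∀ w ∈ Φ, w ∈ M ∨ w ∈ perp Q M) → M = ⊥ ∨ M = ⊤
  ns : ∀ k : Subfield F, (∀ u ∈ Φ, ∀ v ∈ Φ, polar Q u v ^ 2 ∈ k) → k = ⊤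
  tr : ∀ u ∈ Φ, ∀ v ∈ Φ, ∃ g ∈ K, g.1 u = v

/-- `K` has a short root subgroup of order more than three. -/
def Lg (K : Subgroup (O Q)) : Prop :=
  ∃ e, e ≠ 0 ∧ Q e = 0 ∧ ∃ z ∈ AE K e, Q z ≠ 0 ∧ ∃ c : F, c ≠ 0 ∧ c ^ 2 ≠ 1 ∧ c • z ∈ AE K e

variable (Q) in
/-- The hyperbolic partner of `e` in the plane of `e` and `w`. -/
noncomputable def hp (e w : V) : V := (polar Q e w)⁻¹ • w - Q ((polar Q e w)⁻¹ • w) • e

theorem isHyp_hp {e w : V} (he : Q e = 0) (h : polar Q e w ≠ 0) : IsHyp Q e (hp Q e w) :=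
  isHyp_of_polar_eq_one he (by rw [polar_smul_right', inv_mul_cancel₀ h])

theorem sub_mem_hperp {e w z : V} (he : Q e = 0) (h : polar Q e w ≠ 0) (hz : polar Q e z = 0) :
    z - (polar Q w z / polar Q e w) • e ∈ hperp Q e (hp Q e w) ∧
      polar Q w (z - (polar Q w z / polar Q e w) • e) = 0 := by
  simp only [mem_hperp, hp, polar_sub_right, polar_sub_left, polar_smul_left', polar_smul_right',
    polar_self', he, hz, polar_comm Q w e]
  refine ⟨⟨by simp, ?_⟩, ?_⟩ <;> field_simp <;> ring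

theorem smul_sub_mem_AE {e z : V} (he : Q e = 0) (c a : F) :
    c • (z - a • e) ∈ AE K e ↔ c • z ∈ AE K e := by
  rw [smul_sub, smul_smul, sub_eq_add_neg, add_mem_cancel_right (neg_mem (smul_self_mem_AE he _))]

namespace RK
variable {Φ : Set V} (R : RK K Φ)
include R

theorem refl_eq {w : V} (hw : w ∈ Φ) (x : V) : (refl Q w).1 x = x - polar Q w x • w := by
  rw [refl_apply, R.Q_eq w hw, inv_one, one_mul]

theorem refl_mem {u w : V} (hu : u ∈ Φ) (hw : w ∈ Φ) : (refl Q u).1 w ∈ Φ :=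
  R.inv _ (R.mem u hu) w hw

theorem polar_self {w : V} (hw : w ∈ Φ) : polar Q w w = 2 := by
  rw [polar_self', R.Q_eq w hw, mul_one]

theorem neg {w : V} (hw : w ∈ Φ) : -w ∈ Φ := by
  have := R.refl_mem hw hw
  rwa [refl_apply_self (by simp [R.Q_eq w hw])] at this

theorem exists_ne {e : V} (h0 : e ≠ 0) (he : Q e = 0) : ∃ w ∈ Φ, polar Q e w ≠ 0 := by
  by_contra! h
  have h1 : e ∈ perp Q (F ∙ e) := mem_perp_singleton.2 (by rw [polar_self', he, mul_zero])
  rcases R.irr (perp Q (F ∙ e)) fun w h1 => Or.inl (mem_perp_singleton.2 (h w h1)) with h2 | h2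
  · exact h0 (by simpa [h2] using h1)
  · exact h0 (R.nd.eq_zero fun y => mem_perp_singleton.1 (h2.ge trivial))

theorem span_eq {e : V} (h0 : e ≠ 0) (he : Q e = 0) :
    Submodule.span F {w | w ∈ Φ ∧ polar Q e w ≠ 0} = ⊤ := by
  obtain ⟨w, hw, h1⟩ := R.exists_ne h0 he
  refine (R.irr _ fun u hu => ?_).resolve_left fun h => h1 ?_
  · by_cases h2 : polar Q e u = 0
    swap
    · exact .inl (Submodule.subset_span ⟨hu, h2⟩)
    refine or_iff_not_imp_right.2 fun h => ?_
    obtain ⟨x, hx, h3⟩ : ∃ x, (x ∈ Φ ∧ polar Q e x ≠ 0) ∧ polar Q x u ≠ 0 := by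
      simpa [mem_perp_span, and_assoc] using h
    have := sub_mem (Submodule.subset_span (R := F) (s := {w | w ∈ Φ ∧ polar Q e w ≠ 0}) hx)
      (Submodule.subset_span
      (s := {w | w ∈ Φ ∧ polar Q e w ≠ 0}) ⟨R.refl_mem hu hx.1, by
        simpa [R.refl_eq hu, polar_sub_right, h2] using hx.2⟩)
    rwa [R.refl_eq hu, sub_sub_cancel, Submodule.smul_mem_iff _ (polar_comm Q x u ▸ h3)] at this
  · rw [Submodule.span_eq_bot.1 h w ⟨hw, h1⟩, polar_zero_right]

variable [Finite F]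

theorem loc {e w z : V} (he : Q e = 0) (hw : w ∈ Φ) (hew : polar Q e w ≠ 0) (hz : z ∈ AE K e)
    (h0 : Q z ≠ 0) {s : F} (hs : s • z ∈ AE K e) (s0 : s ≠ 0) (s1 : s ^ 2 ≠ 1) :
    ∃ k : Subfield F, (∀ c, c ∈ k ↔ c • z ∈ AE K e) ∧ polar Q e w ^ 2 * Q z ∈ k ∧
      (∀ t ∈ k, t ≠ 0 → hrot Q e (hp Q e w) (t ^ 2) ∈ K) ∧ ∀ c ∈ k, ∀ b ∈ AE K e, c • b ∈ AE K e := by
  have H := isHyp_hp he hew
  obtain ⟨h1, h2⟩ := sub_mem_hperp he hew hz.1
  have h3 := fun c => smul_sub_mem_AE (K := K) (z := z) he c (polar Q w z / polar Q e w)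
  have h4 := Q_sub_smul_of_singular he hz.1 (polar Q w z / polar Q e w)
  generalize z - (polar Q w z / polar Q e w) • e = y at *
  have hν : -polar Q e w ^ 2 ≠ 0 := neg_ne_zero.2 (pow_ne_zero 2 hew)
  have h5 : ∀ c : F, c • y ∈ AE K e → (-polar Q e w ^ 2 * c) • y ∈ AE K (hp Q e w) := fun c hc => by
    have := conj_mem_AE he (R.mem w hw) hν (e' := hp Q e w) (by
      rw [R.refl_eq hw, hp, Q_smul, R.Q_eq w hw, polar_comm Q w e]
      match_scalars <;> field_simp) hc
    rwa [refl_apply_of_perp (by simp [h2]), smul_smul] at this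
  obtain ⟨k, k1, k2⟩ := pair (K := K) ⟨H, h1, h4 ▸ h0, rfl⟩ R.two R.nd hν h5
    (by simpa using (h3 1).2 (by simpa)) ((h3 s).2 hs) s0 s1
  have h6 : ∀ t ∈ k, t ≠ 0 → refl Q ((1 : F) • e + ((-polar Q e w ^ 2 * t) ^ 2 * Q y) • hp Q e w) *
      refl Q y ∈ K := fun t ht t0 => by
    have : (-polar Q e w ^ 2 * t * Q y)⁻¹ • y ∈ AE K e :=
      (k1 _).1 (inv_mem (by rw [mul_right_comm]; exact mul_mem k2 ht))
    rw [← swap_eq H h1 (h4 ▸ h0) (mul_ne_zero hν t0)]
    exact mul_mem (mul_mem this.2 (h5 t ((k1 t).1 ht)).2) this.2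
  have h7 : ∀ t ∈ k, t ≠ 0 → hrot Q e (hp Q e w) (t ^ 2) ∈ K := fun t ht t0 => by
    have := mul_mem (h6 1 k.one_mem one_ne_zero) (inv_mem (h6 t ht t0))
    rw [_root_.mul_inv_rev, refl_inv, refl_inv, mul_assoc, ← mul_assoc (refl Q y), refl_mul_self,
      one_mul, H.refl_mul_refl one_ne_zero (by simp [hew, h4, h0]) one_ne_zero
      (by simp [hew, h4, h0, t0])] at this
    convert this using 2
    rw [h4]; field_simp
  refine ⟨k, fun c => (k1 c).trans (h3 c), by simpa [h4] using k.neg_mem k2, h7,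
    fun c hc b hb => ?_⟩
  have h8 : ∀ t : k, (t : F) ^ 2 • b ∈ AE K e := fun t => by
    by_cases t0 : (t : F) = 0
    · simp [t0]
    have := conj_mem_AE he (h7 t t.2 t0) (pow_ne_zero 2 t0) (H.hrot_left (pow_ne_zero 2 t0))
      (sub_mem hb (smul_self_mem_AE he (polar Q w b / polar Q e w)))
    rwa [hrot_of_hperp (sub_mem_hperp he hew hb.1).1, smul_sub_mem_AE he] at this
  obtain ⟨x, y, h⟩ := exists_sum_two_sq (F := k) (fun h => R.two (congrArg Subtype.val h))
    one_ne_zero one_ne_zero ⟨c, hc⟩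
  have h9 := congrArg Subtype.val h
  simp only [one_mul, Subfield.coe_add, SubmonoidClass.coe_pow] at h9
  simpa only [← h9, add_smul] using add_mem (h8 x) (h8 y)

theorem commutator_le_of_lg [FiniteDimensional F V] (h3 : 3 ≤ finrank F V) (h : Lg K) :
    commutator (O Q) ≤ K := by
  obtain ⟨e, h0, he, z, hz, z0, s, s0, s1, hs⟩ := h
  obtain ⟨w₀, hw₀, hew₀⟩ := R.exists_ne h0 he
  obtain ⟨k, k1, -, -, k4⟩ := R.loc he hw₀ hew₀ hz z0 hs s0 s1
  have hsk := (k1 s).2 hs
  have A : ∀ w ∈ Φ, polar Q e w ≠ 0 → ∀ b ∈ AE K e, Q b ≠ 0 → polar Q e w ^ 2 * Q b ∈ k ∧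
      hrot Q e (hp Q e w) (s ^ 2) ∈ K := fun w hw hew b hb b0 => by
    obtain ⟨l, l1, l2, l3, l4⟩ := R.loc he hw hew hb b0 (k4 s hsk b hb) s0 s1
    exact ⟨(k1 _).2 (l4 _ l2 z hz), l3 s ((l1 s).2 (k4 s hsk b hb)) s0⟩
  have C : ∀ w ∈ Φ, polar Q e w ≠ 0 → ∀ w' ∈ Φ, polar Q e w' ≠ 0 →
      (polar Q e w')⁻¹ • w' - (polar Q e w)⁻¹ • w ∈ AE K e := fun w hw hew w' hw' hew' => by
    have H := isHyp_hp he hew
    have H' := isHyp_hp he hew'
    obtain ⟨b, hb, h1⟩ := H.exists_eich_of_polar_ne H'.right (by simp [H'.polar_eq])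
    rw [H'.polar_eq, one_smul] at h1
    have hb1 := (mem_hperp.1 hb).1
    have h2 : eich Q e b * hrot Q e (hp Q e w') (s ^ 2) * (eich Q e b)⁻¹ =
        hrot Q e (hp Q e w) (s ^ 2) := by
      have := fun t : F => conj_refl (eich Q e b) (e - t • hp Q e w')
      simp only [map_sub, map_smul, h1, eich_apply_self he hb1] at this
      rw [hrot, hrot, ← this, ← this]; group
    have h4 := conj_eich (hrot Q e (hp Q e w) (s ^ 2)) e b
    rw [H.hrot_left (pow_ne_zero 2 s0), hrot_of_hperp hb, eich_smul_left he hb1] at h4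
    have h5 : (s ^ 2 - 1) • b ∈ AE K e := ⟨by simp [hb1], by
      rw [sub_smul, one_smul, sub_eq_add_neg, add_comm, eich_add he (by simp [hb1]) (by simp [hb1]),
        eich_neg he hb1, ← h4]
      convert mul_mem (A w' hw' hew' z hz z0).2 (inv_mem (A w hw hew z hz z0).2) using 1
      nth_rewrite 1 [← h2]; group⟩
    have h6 := k4 _ (inv_mem (sub_mem (pow_mem hsk 2) k.one_mem)) _ h5
    rw [smul_smul, inv_mul_cancel₀ (sub_ne_zero.2 s1), one_smul] at h6
    rw [eich_apply he hb1, H'.polar_eq] at h1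
    convert add_mem h6 (smul_self_mem_AE he (Q b - polar Q b (hp Q e w') +
      Q ((polar Q e w')⁻¹ • w') - Q ((polar Q e w)⁻¹ • w))) using 1
    generalize polar Q b (hp Q e w') = a at h1
    simp only [hp] at h1
    linear_combination (norm := module) h1
  have D0 : ∀ w ∈ Φ, polar Q e w ≠ 0 → ∀ w' ∈ Φ, polar Q e w' ≠ 0 →
      polar Q e w ^ 2 / polar Q e w' ^ 2 ∈ k := fun w hw hew w' hw' hew' => by
    convert div_mem (A w hw hew z hz z0).1 (A w' hw' hew' z hz z0).1 using 1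
    field_simp
  have D : ∀ w ∈ Φ, polar Q e w ≠ 0 → ∀ w' ∈ Φ, polar Q e w' ≠ 0 →
      polar Q w w' * polar Q e w / polar Q e w' ∈ k := fun w hw hew w' hw' hew' => by
    have h1 : polar Q e w ^ 2 * Q ((polar Q e w')⁻¹ • w' - (polar Q e w)⁻¹ • w) ∈ k := by
      by_cases h : Q ((polar Q e w')⁻¹ • w' - (polar Q e w)⁻¹ • w) = 0
      · simp [h]
      · exact (A w hw hew _ (C w hw hew w' hw' hew') h).1
    convert sub_mem (add_mem k.one_mem (D0 w hw hew w' hw' hew')) h1 using 1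
    rw [Q_sub, Q_smul, Q_smul, polar_smul_left', polar_smul_right', R.Q_eq w hw, R.Q_eq w' hw',
      polar_comm Q w' w]
    field_simp; ring
  have E1 : ∀ w ∈ Φ, polar Q e w ≠ 0 → ∀ u ∈ Φ, polar Q w u ^ 2 ∈ k := fun w hw hew u hu => by
    by_cases h : polar Q e u = 0
    · have h1 : polar Q e ((refl Q u).1 w) = polar Q e w := by
        simp [R.refl_eq hu, polar_sub_right, h]
      have := D w hw hew _ (R.refl_mem hu hw) (h1 ▸ hew)
      rw [h1, mul_div_cancel_right₀ _ hew, R.refl_eq hu, polar_sub_right, R.polar_self hw,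
        polar_smul_right', polar_comm Q u w] at this
      convert sub_mem (natCast_mem k 2) this using 1
      push_cast; ring
    · convert mul_mem (pow_mem (D w hw hew u hu h) 2) (D0 u hu h w hw hew) using 1
      field_simp
  have hsp := R.span_eq h0 he
  obtain rfl : k = ⊤ := R.ns k fun u hu u' hu' => by
    by_cases h : polar Q e u = 0
    swap
    · exact E1 u hu h u' hu'
    obtain ⟨w, hw, h1⟩ : ∃ w, (w ∈ Φ ∧ polar Q e w ≠ 0) ∧ polar Q w u ≠ 0 := by
      by_contra! h1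
      have := (mem_perp_span (s := {w | w ∈ Φ ∧ polar Q e w ≠ 0})).2 h1
      rw [hsp, perp_top R.nd, Submodule.mem_bot] at this
      simpa [this] using R.Q_eq u hu
    rw [← O.map_polar (refl Q w)]
    exact E1 _ (R.refl_mem hw.1 hu) (by
      simpa [R.refl_eq hw.1, polar_sub_right, h, h1] using hw.2) _ (R.refl_mem hw.1 hu')
  have G : ∀ x, x - (polar Q e x / polar Q e w₀) • w₀ ∈ AE K e := fun x => by
    induction (hsp.ge trivial : x ∈ _) using Submodule.span_induction with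
    | mem x hx =>
      convert k4 (polar Q e x) trivial _ (C w₀ hw₀ hew₀ x hx.1 hx.2) using 1
      have := hx.2
      match_scalars <;> field_simp
    | zero => simp
    | add x y _ _ hx hy => convert add_mem hx hy using 1; rw [polar_add_right]; module
    | smul a x _ hx => convert k4 a trivial _ hx using 1; rw [polar_smul_right']; module
  have h1 : FullAt K ⊤ e := fullAt_iff.2 fun x _ _ h => by simpa [h] using (G x).2
  refine commutator_le_of_pair R.nd h3 he (by simpa) ?_ h1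
    (h1.conj (R.mem w₀ hw₀) fun _ _ => trivial)
  simpa [R.refl_eq hw₀, polar_sub_right, polar_self', he, polar_comm Q w₀ e] using hew₀

end RK

end Cfsg.Lib.Sp4O
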