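import Cfsg.Agent.Lib.Sp4O.Cl
import Cfsg.Agent.Lib.Asch.Adjs

/-!
# Quasisimple absolutely irreducible subgroups of `Sp₄`: set-up
-/

set_option autoImplicit false

namespace Cfsg.Lib.Sp4O

open QuadraticMap Module Matrix Cfsg.Lib.Orth Cfsg.Lib.OMax Cfsg.Geo Cfsg.Lib.Asch
open scoped MatrixGroups commutatorElement

variable {F : Type*} [Field F]

/-- `P` modulo its scalars. -/
abbrev Sq (P : Subgroup (GL I4 F)) : Type _ := P ⧸ (scalars I4 F).subgroupOf P

/-- The standing hypotheses. -/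
structure Core (P : Subgroup (GL I4 F)) : Prop where
  le : P ≤ spGL 2 F
  perfect : ⁅P, P⁆ = P
  simple : IsSimpleGroup (Sq P)
  nonabelian : ¬ IsMulCommutative (Sq P)
  abs : ActsAbsolutelyIrreducibly (matrixSet P)
  nosub : ∀ k : Subfield F, k ≠ ⊤ → ¬ RealisableOver k (matrixSet P)

theorem mem_scalars_of {g : GL I4 F} (h : g = 1 ∨ g = -1) : g ∈ scalars I4 F := by
  rw [mem_scalars_iff]
  rcases h with rfl | rfl
  exacts [⟨1, by simp⟩, ⟨-1, by simp⟩]

theorem mem_scalars_sp {g : GL I4 F} (hg : g ∈ spGL 2 F) : g ∈ scalars I4 F ↔ g = 1 ∨ g = -1 :=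
  ⟨fun h => let ⟨_, hc⟩ := (mem_scalars_iff g).1 h; scalar_of_sp hg hc, mem_scalars_of⟩

/-- The projection. -/
abbrev pr (P : Subgroup (GL I4 F)) : P →* Sq P := QuotientGroup.mk' _

theorem pr_surj (P : Subgroup (GL I4 F)) : Function.Surjective (pr P) :=
  QuotientGroup.mk'_surjective _

/-- Products of an even number of Clifford generators. -/
def Ev (Φ : Set (V F)) (δ : F) (k : Subfield F) : Submonoid (M4 F) where
  carrier := {A | ∃ (l : List (V F)) (m : ℕ), ∃ c ∈ k, l.length = 2 * m ∧ (∀ x ∈ l, x ∈ Φ) ∧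
    A = (c / δ ^ m) • (l.map gam).prod}
  one_mem' := ⟨[], 0, 1, k.one_mem, rfl, by simp, by simp⟩
  mul_mem' := by
    rintro _ _ ⟨l, m, c, hc, h1, h2, rfl⟩ ⟨l', m', c', hc', h1', h2', rfl⟩
    refine ⟨l ++ l', m + m', c * c', k.mul_mem hc hc', by simp [h1, h1', mul_add],
      fun x hx => (List.mem_append.1 hx).elim (h2 x) (h2' x), ?_⟩
    rw [smul_mul_smul_comm, List.map_append, List.prod_append, div_mul_div_comm, pow_add]

variable [NeZero (2 : F)]

theorem trace_mem_of_ev {Φ : Set (V F)} {δ : F} (hδ : δ ≠ 0) {k : Subfield F}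
    (h : ∀ x ∈ Φ, ∀ y ∈ Φ, polar (q5 F) x y / δ ∈ k) {A : M4 F} (hA : A ∈ Ev Φ δ k) :
    A.trace ∈ k := by
  have key : ∀ m (l : List (V F)), l.length = 2 * m → (∀ x ∈ l, x ∈ Φ) →
      (l.map gam).prod.trace / δ ^ m ∈ k := fun m => by
    induction m with
    | zero => intro l h1 _; simpa [List.length_eq_zero_iff.1 h1] using natCast_mem k 4
    | succ m ih =>
      rintro (_ | ⟨x, l⟩) h1 h2
      · simp at h1
      have hx := h2 x (by simp)
      have mv : ∀ b a : List (V F), a.length + b.length = 2 * m + 1 → (∀ y ∈ a ++ b, y ∈ Φ) →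
          (((a.map gam).prod * gam x * (b.map gam).prod).trace - (-1) ^ b.length *
            (((a ++ b).map gam).prod * gam x).trace) / δ ^ (m + 1) ∈ k := fun b => by
        induction b with
        | nil => intro a _ _; simp
        | cons y b ihb =>
          intro a h3 h4
          have h5 := ihb (a ++ [y]) (by simp at h3 ⊢; omega) (by simpa using h4)
          have h6 := k.mul_mem (h x hx y (h4 y (by simp))) (ih (a ++ b) (by simp at h3 ⊢; omega)
            fun z hz => h4 z (by simp at hz ⊢; tauto))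
          convert k.sub_mem h6 h5 using 1
          simp only [List.map_cons, List.prod_cons, List.map_append, List.prod_append,
            List.map_nil, List.prod_nil, mul_one, List.length_cons, List.append_assoc,
            List.singleton_append]
          rw [Matrix.mul_assoc _ (gam x), ← Matrix.mul_assoc (gam x),
            eq_sub_of_add_eq (gam_anti x y)]
          simp only [sub_mul, mul_sub, smul_mul_assoc, mul_smul_comm, one_mul, trace_sub,
            trace_smul, smul_eq_mul, Matrix.mul_assoc]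
          field_simp
          ring
      have h3 : l.length = 2 * m + 1 := by simp at h1; omega
      have := k.mul_mem (k.inv_mem (natCast_mem k 2)) (mv l [] (by simpa) fun y hy => h2 y
        (by simp at hy; simp [hy]))
      convert this using 1
      simp only [List.map_cons, List.prod_cons, List.map_nil, List.prod_nil, one_mul, h3,
        List.nil_append, trace_mul_comm _ (gam x), pow_succ (-1 : F), pow_mul]
      field_simp
      norm_num
  obtain ⟨l, m, c, hc, h1, h2, rfl⟩ := hA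
  convert k.mul_mem hc (key m l h1 h2) using 1
  rw [trace_smul, smul_eq_mul]; ring

namespace Core

variable {P : Subgroup (GL I4 F)} (h : Core P)
include h

omit [NeZero (2 : F)] in
theorem pr_eq_one {g : P} : pr P g = 1 ↔ g.1 = 1 ∨ g.1 = -1 := by
  rw [← mem_scalars_sp (h.le g.2), QuotientGroup.mk'_apply, QuotientGroup.eq_one_iff,
    Subgroup.mem_subgroupOf]

omit [NeZero (2 : F)] in
theorem pr_eq {g g' : P} : pr P g = pr P g' ↔ g.1 = g'.1 ∨ g.1 = -g'.1 := by
  rw [← mul_inv_eq_one, ← map_inv, ← map_mul, h.pr_eq_one, Subgroup.coe_mul, Subgroup.coe_inv,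
    mul_inv_eq_one, mul_inv_eq_iff_eq_mul, neg_one_mul]

omit [NeZero (2 : F)] in
theorem scalar {A : M4 F} (hA : ∀ g ∈ P, A * g.1 = g.1 * A) : ∃ c : F, A = c • 1 :=
  h.abs.2 A (by rintro _ ⟨g, hg, rfl⟩; exact hA g hg)

omit [NeZero (2 : F)] in
theorem irr {W : Submodule F (I4 → F)} (hW : ∀ g ∈ P, ∀ w ∈ W, g.1 *ᵥ w ∈ W) : W = ⊥ ∨ W = ⊤ :=
  h.abs.1 W (by rintro _ ⟨g, hg, rfl⟩ _ ⟨w, hw, rfl⟩; exact hW g hg w hw)

omit [NeZero (2 : F)] in
theorem eq_top [Finite F] {k : Subfield F} (ht : ∀ g ∈ P, g.1.trace ∈ k) : k = ⊤ := by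
  by_contra hk
  obtain ⟨B, -, hB⟩ := exists_subfield_of_trace (H := ⊥) (env_eq_top_of_absIrred h.abs) bot_le ht
  exact h.nosub k hk ⟨B⁻¹, fun s hs => (hB s).1 (Algebra.subset_adjoin hs)⟩

omit [NeZero (2 : F)] in
/-- A non-scalar subgroup of `P` normalised by `P` is `P`. -/
theorem le_of_normal {N : Subgroup (GL I4 F)} (hN : N ≤ P)
    (hn : ∀ g ∈ P, ∀ x ∈ N, g * x * g⁻¹ ∈ N) (h1 : ¬ N ≤ scalars I4 F) : P ≤ N := by
  haveI := h.simple
  haveI : (N.subgroupOf P).Normal := ⟨fun x hx g => hn g g.2 x hx⟩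
  have hm : ((N.subgroupOf P).map (pr P)).Normal := Subgroup.Normal.map inferInstance _ (pr_surj P)
  have hle : P ≤ N ⊔ scalars I4 F := by
    rcases hm.eq_bot_or_eq_top with e | e
    · refine absurd (fun x hx => ?_) h1
      have : pr P ⟨x, hN hx⟩ ∈ (N.subgroupOf P).map (pr P) := ⟨⟨x, hN hx⟩, hx, rfl⟩
      rw [e, Subgroup.mem_bot] at this
      exact mem_scalars_of (h.pr_eq_one.1 this)
    · intro x hx
      obtain ⟨y, hy, hxy⟩ : pr P ⟨x, hx⟩ ∈ (N.subgroupOf P).map (pr P) := e ▸ Subgroup.mem_top _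
      rcases h.pr_eq.1 hxy.symm with e | e
      · exact Subgroup.mem_sup_left ((show x = y.1 from e) ▸ hy)
      · rw [show x = y.1 * -1 from e.trans (mul_neg_one _).symm]
        exact mul_mem (Subgroup.mem_sup_left hy) (Subgroup.mem_sup_right (mem_scalars_of (.inr rfl)))
  rw [← h.perfect, commutator_eq_of_le_sup scalars_le_center hN hle]
  exact Subgroup.commutator_le.2 fun a ha b hb =>
    mul_mem (mul_mem (mul_mem ha hb) (inv_mem ha)) (inv_mem hb)

/-- No semi-invariant traceless matrices. -/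
theorem semi {C : M4 F} (h0 : C.trace = 0) (hC : ∀ g ∈ P, ∃ c : F, g.1 * C = c • (C * g.1)) :
    C = 0 := by
  by_contra hn
  let N : Subgroup (GL I4 F) := (MulAction.stabilizer (ConjAct (GL I4 F)) C).comap
    ConjAct.toConjAct.toMonoidHom
  have hN : ∀ g, g ∈ N ↔ g.1 * C = C * g.1 := fun g => by
    change g.1 * C * (g⁻¹).1 = C ↔ _
    rw [Units.mul_inv_eq_iff_eq_mul]
  obtain ⟨c, hc⟩ := h.scalar (A := C) fun g hg => ((hN g).1 ((Subgroup.commutator_le.2
    fun a ha b hb => (hN _).2 (by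
      obtain ⟨c, hc⟩ := hC a ha
      obtain ⟨d, hd⟩ := hC b hb
      have h1 : (a * b).1 * C = (c * d) • (C * (a * b).1) := by
        rw [Units.val_mul, mul_assoc, hd, mul_smul_comm, ← mul_assoc, hc, smul_mul_assoc,
          smul_smul, mul_comm d, mul_assoc]
      have h2 : (b * a).1 * C = (c * d) • (C * (b * a).1) := by
        rw [Units.val_mul, mul_assoc, hc, mul_smul_comm, ← mul_assoc, hd, smul_mul_assoc,
          smul_smul, mul_assoc]
      have h3 : c * d ≠ 0 := fun e => hn (by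
        rwa [e, zero_smul, Units.mul_right_eq_zero] at h1)
      have h4 : C * ((b * a)⁻¹).1 = (c * d) • (((b * a)⁻¹).1 * C) := by
        rw [Units.mul_inv_eq_iff_eq_mul, smul_mul_assoc, mul_assoc, ← mul_smul_comm, ← h2,
          Units.inv_mul_cancel_left]
      rw [show ⁅a, b⁆ = a * b * (b * a)⁻¹ by rw [commutatorElement_def]; group, Units.val_mul,
        ← mul_assoc C]
      refine smul_right_injective _ h3 ?_
      simp only
      rw [mul_assoc, ← mul_smul_comm, ← h4, ← mul_assoc, h1, smul_mul_assoc])) (h.perfect.ge hg))).symm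
  rw [hc, trace_smul_one, mul_eq_zero, or_iff_right four_ne] at h0
  exact hn (by rw [hc, h0, zero_smul])

/-- The action of `P` on the orthogonal module. -/
noncomputable def rho : P →* O (q5 F) := phi.comp (Subgroup.inclusion h.le)

theorem gam_rho (g : P) (x : V F) : gam ((h.rho g).1 x) = g.1.1 * gam x * (g.1⁻¹).1 :=
  gam_phi _ x

theorem rho_eq_iff {g : P} {x y : V F} : (h.rho g).1 x = y ↔ g.1.1 * gam x = gam y * g.1.1 :=
  phi_eq_iff

theorem rho_eq_one {g : P} : h.rho g = 1 ↔ pr P g = 1 := phi_eq_one.trans h.pr_eq_one.symm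

theorem eq_zero_of_line {x : V F} (hx : ∀ g : P, ∃ c : F, (h.rho g).1 x = c • x) : x = 0 :=
  gam_eq_zero.1 (h.semi (trace_gam x) fun g hg => (hx ⟨g, hg⟩).imp fun c hc => by
    rw [h.rho_eq_iff.1 hc, map_smul, smul_mul_assoc])

theorem eq_bot_of_le_two {W : Submodule F (V F)} (hW : ∀ g : P, ∀ w ∈ W, (h.rho g).1 w ∈ W)
    (h2 : finrank F W ≤ 2) : W = ⊥ := by
  by_contra hn
  obtain ⟨a, ha, ha0⟩ := (Submodule.ne_bot_iff W).1 hn
  have k1 : ∀ x ∈ W, x ≠ 0 → ¬ W ≤ F ∙ x := fun x hx h0 hle => h0 (h.eq_zero_of_line fun g =>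
    (Submodule.mem_span_singleton.1 (hle (hW g x hx))).imp fun _ => Eq.symm)
  obtain ⟨b, hb, hab⟩ := SetLike.not_le_iff_exists.1 (k1 a ha ha0)
  have hs : Submodule.span F {b, a} = W := Submodule.eq_of_le_of_finrank_le
    (Submodule.span_le.2 (by simp [Set.insert_subset_iff, ha, hb])) (by
      rwa [Submodule.span_insert, sup_comm, finrank_sup_span_singleton' hab,
        finrank_span_singleton ha0])
  have k2 : ∀ x ∈ W, ∀ y ∈ W, ∃ c : F, gam x * gam y - gam y * gam x =
      c • (gam b * gam a - gam a * gam b) := fun x hx y hy => by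
    rw [← hs, Submodule.mem_span_pair] at hx hy
    obtain ⟨s, t, rfl⟩ := hx
    obtain ⟨s', t', rfl⟩ := hy
    refine ⟨s * t' - s' * t, ?_⟩
    simp only [map_add, map_smul, add_mul, mul_add, smul_mul_smul_comm]
    module
  have k3 := h.semi (C := gam b * gam a - gam a * gam b)
    (by rw [trace_sub, trace_mul_comm, sub_self]) fun g hg => by
      obtain ⟨c, hc⟩ := k2 _ (hW ⟨g, hg⟩ b hb) _ (hW ⟨g, hg⟩ a ha)
      refine ⟨c, ?_⟩
      rw [← smul_mul_assoc, ← hc, h.gam_rho, h.gam_rho]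
      simp [mul_sub, sub_mul, Matrix.mul_assoc]
  have k4 : ∀ x ∈ W, ∀ y ∈ W, (2 : F) • (gam x * gam y) = polar (q5 F) x y • 1 := fun x hx y hy => by
    obtain ⟨c, hc⟩ := k2 x hx y hy
    rw [k3, smul_zero, sub_eq_zero] at hc
    rw [← gam_anti, ← hc, two_smul]
  have k5 : ∀ x ∈ W, q5 F x = 0 := fun x hx => by_contra fun h0 =>
    k1 x hx (ne_zero_of_Q_ne_zero h0) fun y hy => Submodule.mem_span_singleton.2
      ⟨polar (q5 F) x y / (2 * q5 F x), gam_inj (by
        have := congrArg (gam x * ·) (k4 x hx y hy)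
        simp only [mul_smul_comm, ← Matrix.mul_assoc, gam_mul_self, smul_mul_assoc, one_mul,
          mul_one, smul_smul] at this
        rw [map_smul, div_eq_inv_mul, mul_smul, ← this, smul_smul,
          inv_mul_cancel₀ (mul_ne_zero two_ne_zero h0), one_smul])⟩
  have k6 : ∀ x ∈ W, ∀ y ∈ W, gam x * gam y = 0 := fun x hx y hy => by
    have := k4 x hx y hy
    rwa [TS.polar_eq k5 hx hy, zero_smul, smul_eq_zero, or_iff_right two_ne_zero] at this
  obtain ⟨v, hv⟩ : ∃ v, gam a *ᵥ v ≠ 0 := by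
    by_contra! hc
    exact ha0 (gam_eq_zero.1 (matrix_ext_mulVec fun v => by rw [hc, zero_mulVec]))
  rcases h.irr (W := ⨅ x ∈ W, LinearMap.ker (toLin' (gam x))) (fun g hg w hw => by
    simp only [Submodule.mem_iInf, LinearMap.mem_ker, toLin'_apply] at hw ⊢
    intro x hx
    have := hw _ (hW ⟨g, hg⟩⁻¹ x hx)
    rw [h.gam_rho] at this
    have := congrArg (g.1 *ᵥ ·) this
    simpa [← Matrix.mul_assoc] using this) with e | e
  · refine hv ((Submodule.eq_bot_iff _).1 e _ ?_)
    simp only [Submodule.mem_iInf, LinearMap.mem_ker, toLin'_apply, mulVec_mulVec]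
    exact fun x hx => by rw [k6 x hx a ha, zero_mulVec]
  · have := e.ge (Submodule.mem_top (x := v))
    simp only [Submodule.mem_iInf, LinearMap.mem_ker, toLin'_apply] at this
    exact hv (this a ha)

theorem irr5 {W : Submodule F (V F)} (hW : ∀ g : P, ∀ w ∈ W, (h.rho g).1 w ∈ W) :
    W = ⊥ ∨ W = ⊤ := by
  have := finrank_add_finrank_perp nd_q5 W
  rw [finrank_V] at this
  by_cases h2 : finrank F W ≤ 2
  · exact .inl (h.eq_bot_of_le_two hW h2)
  · have e := h.eq_bot_of_le_two (W := perp (q5 F) W) (fun g w hw => mem_perp.2 fun u hu => by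
      rw [O.polar_right, ← map_inv]; exact mem_perp.1 hw _ (hW _ u hu)) (by omega)
    exact .inr (by rw [← perp_perp nd_q5 W, e, perp_bot])

theorem eq_top_of_ev [Finite F] {Φ : Set (V F)} {δ : F} (hδ : δ ≠ 0) {k : Subfield F}
    (hk : ∀ x ∈ Φ, ∀ y ∈ Φ, polar (q5 F) x y / δ ∈ k) (hP : ∀ g ∈ P, g.1 ∈ Ev Φ δ k) : k = ⊤ :=
  h.eq_top fun g hg => trace_mem_of_ev hδ hk (hP g hg)

end Core

end Cfsg.Lib.Sp4O
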