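import Cfsg.Agent.Lib.Sp4O.Lift
import Cfsg.Agent.Lib.Sp4O.Irr

/-!
# A proper core has no non-central involution
-/

set_option autoImplicit false

namespace Cfsg.Lib.Sp4O

open QuadraticMap Module Matrix Cfsg.Lib.Orth Cfsg.Lib.OMax Cfsg.Geo Cfsg.Lib.Asch
open scoped MatrixGroups commutatorElement

variable {F : Type*} [Field F] [NeZero (2 : F)] [Finite F]

theorem refl_ind {W : Type*} [AddCommGroup W] [Module F W] {Q : QuadraticForm F W} {Φ : Set W}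
    {p : O Q → Prop} (h1 : p 1) (h2 : ∀ x ∈ Φ, ∀ g, p g → p (refl Q x * g)) {g : O Q}
    (hg : g ∈ Subgroup.closure (refl Q '' Φ)) : p g := by
  induction hg using Subgroup.closure_induction_left with
  | one => exact h1
  | mul_left x hx y _ h => obtain ⟨a, ha, rfl⟩ := hx; exact h2 a ha y h
  | inv_mul_cancel x hx y _ h => obtain ⟨a, ha, rfl⟩ := hx; exact refl_inv (Q := Q) a ▸ h2 a ha y h

theorem Core.eq_sp {P : Subgroup (GL I4 F)} (h : Core P)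
    (hP : ∀ s : spGL 2 F, ∃ a : P, phi s = h.rho a) : P = spGL 2 F := by
  have h1 : ⁅spGL 2 F, spGL 2 F⁆ = spGL 2 F := by
    rw [← Subgroup.map_subtype_commutator, commutator_sp, ← MonoidHom.range_eq_map,
      Subgroup.range_subtype]
  rw [← h.perfect, ← h1, commutator_eq_of_le_sup scalars_le_center h.le fun s hs => ?_]
  obtain ⟨a, ha⟩ := hP ⟨s, hs⟩
  have h2 := (phi_eq_one (g := ⟨s, hs⟩ * (Subgroup.inclusion h.le a)⁻¹)).1
    (by rw [map_mul, map_inv, ha]; exact mul_inv_cancel _)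
  rw [show s = s * a⁻¹ * a by simp, sup_comm]
  exact mul_mem (Subgroup.mem_sup_left (mem_scalars_of h2)) (Subgroup.mem_sup_right a.2)

omit [Finite F] in
theorem Core.rho_of_gam {P : Subgroup (GL I4 F)} (h : Core P) {g : P} {x : V F}
    (hg : g.1.1 = gam x) : q5 F x = 1 ∧ h.rho g = O.neg _ * refl _ x :=
  phi_of_gam (g := Subgroup.inclusion h.le g) hg

theorem Core.no_inv {P : Subgroup (GL I4 F)} (h : Core P) (hP : P ≠ spGL 2 F) {t : GL I4 F}
    (ht : t ∈ P) (h2 : t * t = 1) : t = 1 ∨ t = -1 := by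
  by_contra! hn
  obtain ⟨v, hv⟩ := exists_gam_of_inv (h.le ht) h2 hn.1 hn.2
  obtain ⟨v1, v2⟩ := h.rho_of_gam (g := ⟨t, ht⟩) hv
  let Φ : Set (V F) := {x | ∃ g : P, x = (h.rho g).1 v ∨ x = -(h.rho g).1 v}
  have hv' : v ∈ Φ := ⟨1, .inl (by simp [O.one_apply])⟩
  have a0 : ∀ a : P, (a * ⟨t, ht⟩ * a⁻¹).1.1 = gam ((h.rho a).1 v) := fun a => by
    simp [h.gam_rho, hv]
  have a1 : ∀ a : P, h.rho (a * ⟨t, ht⟩ * a⁻¹) = O.neg _ * refl _ ((h.rho a).1 v) := fun a =>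
    (h.rho_of_gam (a0 a)).2
  have a2 : ∀ x ∈ Φ, ∃ a : P, refl _ x = O.neg _ * h.rho a := by
    rintro x ⟨a, rfl | rfl⟩ <;>
      exact ⟨_, by rw [a1 a, ← mul_assoc, Orth.neg_mul_neg, one_mul]; try rw [refl_neg]⟩
  have a3 : ∀ a : P, ∀ x ∈ Φ, (h.rho a).1 x ∈ Φ ∧ -(h.rho a).1 x ∈ Φ := by
    rintro a x ⟨b, rfl | rfl⟩ <;> exact ⟨⟨a * b, by simp [O.mul_apply]⟩, a * b, by simp [O.mul_apply]⟩
  have a4 : ∀ g ∈ Subgroup.closure (refl (q5 F) '' Φ), ∃ a : P, g = h.rho a ∨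
      g = O.neg _ * h.rho a := fun g hg => refl_ind (p := fun g => ∃ a : P, g = h.rho a ∨
      g = O.neg _ * h.rho a) ⟨1, by simp⟩ (fun x hx g ⟨a, ha⟩ => by
        obtain ⟨b, hb⟩ := a2 x hx
        refine ⟨b * a, ?_⟩
        rcases ha with rfl | rfl
        · simp [hb, mul_assoc]
        · rw [hb, mul_assoc, ← mul_assoc (h.rho b), Subgroup.mem_center_iff.1 neg_mem_center,
            ← mul_assoc, ← mul_assoc, Orth.neg_mul_neg]
          simp) hg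
  have a5 : P ≤ Subgroup.closure 
      {g | ∃ a b : P, g = (a * ⟨t, ht⟩ * a⁻¹ * (b * ⟨t, ht⟩ * b⁻¹)).1} := by
    refine h.le_of_normal ((Subgroup.closure_le _).2 (by
      rintro _ ⟨a, b, rfl⟩
      exact Subtype.prop _)) (fun g hg x hx => ?_) fun hs => ?_
    · induction hx using Subgroup.closure_induction with
      | mem x hx =>
        obtain ⟨a, b, rfl⟩ := hx
        exact Subgroup.subset_closure ⟨⟨g, hg⟩ * a, ⟨g, hg⟩ * b, by simp [mul_assoc]⟩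
      | one => simp
      | mul x y _ _ hx hy => convert mul_mem hx hy using 1; group
      | inv x _ hx => convert inv_mem hx using 1; group
    · refine ne_zero_of_Q_ne_zero (Q := q5 F) (by simp [v1]) (h.eq_zero_of_line (x := v) fun a => ?_)
      obtain ⟨c, hc⟩ := (mem_scalars_iff _).1 (hs (Subgroup.subset_closure ⟨a, 1, rfl⟩))
      refine ⟨c, gam_inj ?_⟩
      have := congrArg (· * t.1) hc
      simp only [Subgroup.coe_mul, one_mul, inv_one, mul_one, Units.val_mul, mul_assoc,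
        ← Units.val_mul t t, h2, Units.val_one, smul_mul_assoc] at this
      rw [h.gam_rho, map_smul, ← hv, mul_assoc]
      simpa using this
  have a6 : ∀ a : P, h.rho a ∈ Subgroup.closure (refl (q5 F) '' Φ) ∧
      ∀ k : Subfield F, a.1.1 ∈ Ev Φ 1 k := fun ⟨a, ha⟩ => by
    have b1 : ∀ a b : P, h.rho (a * ⟨t, ht⟩ * a⁻¹ * (b * ⟨t, ht⟩ * b⁻¹)) ∈
        Subgroup.closure (refl (q5 F) '' Φ) ∧ ∀ k : Subfield F,
          (a * ⟨t, ht⟩ * a⁻¹ * (b * ⟨t, ht⟩ * b⁻¹)).1.1 ∈ Ev Φ 1 k := fun a b => by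
      constructor
      · rw [map_mul, a1, a1, mul_assoc, ← mul_assoc (refl _ _),
          Subgroup.mem_center_iff.1 neg_mem_center, ← mul_assoc, ← mul_assoc, Orth.neg_mul_neg, one_mul]
        exact mul_mem (Subgroup.subset_closure ⟨_, (a3 a v hv').1, rfl⟩)
          (Subgroup.subset_closure ⟨_, (a3 b v hv').1, rfl⟩)
      · exact fun k => ⟨[(h.rho a).1 v, (h.rho b).1 v], 1, 1, k.one_mem, rfl, by
          simp [(a3 _ v hv').1], by rw [Subgroup.coe_mul, Units.val_mul, a0, a0]; simp⟩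
    suffices ∃ ha : a ∈ P, h.rho ⟨a, ha⟩ ∈ Subgroup.closure (refl (q5 F) '' Φ) ∧
      ∀ k : Subfield F, a.1 ∈ Ev Φ 1 k from this.2
    have := a5 ha
    clear ha
    induction this using Subgroup.closure_induction'' with
    | mem x hx => obtain ⟨a, b, rfl⟩ := hx; exact ⟨Subtype.prop _, b1 a b⟩
    | inv_mem x hx =>
      obtain ⟨a, b, rfl⟩ := hx
      have : (a * ⟨t, ht⟩ * a⁻¹ * (b * ⟨t, ht⟩ * b⁻¹)).1⁻¹ =
          (b * ⟨t, ht⟩ * b⁻¹ * (a * ⟨t, ht⟩ * a⁻¹)).1 := by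
        simp [inv_eq_of_mul_eq_one_left h2, mul_assoc]
      rw [this]; exact ⟨Subtype.prop _, b1 b a⟩
    | one => exact ⟨one_mem _, by simp [show (⟨1, one_mem _⟩ : P) = 1 from rfl], fun k => one_mem _⟩
    | mul x y _ _ hx hy =>
      obtain ⟨hx, x1, x2⟩ := hx
      obtain ⟨hy, y1, y2⟩ := hy
      exact ⟨mul_mem hx hy, map_mul h.rho ⟨x, hx⟩ ⟨y, hy⟩ ▸ mul_mem x1 y1,
        fun k => mul_mem (x2 k) (y2 k)⟩
  have a7 : O.neg _ ∈ Subgroup.closure (refl (q5 F) '' Φ) := by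
    have := mul_mem (a6 ⟨t, ht⟩).1 (Subgroup.subset_closure ⟨v, hv', rfl⟩)
    rwa [v2, mul_assoc, refl_mul_self, mul_one] at this
  have a8 : ∀ x ∈ Φ, q5 F x = 1 := by rintro x ⟨a, rfl | rfl⟩ <;> simp [v1]
  have a9 : ∀ g ∈ Subgroup.closure (refl (q5 F) '' Φ), ∀ x ∈ Φ, g.1 x ∈ Φ := fun g hg x hx => by
    obtain ⟨a, rfl | rfl⟩ := a4 g hg
    exacts [(a3 a x hx).1, (a3 a x hx).2]
  have a10 : ∀ u ∈ Φ, ∀ w ∈ Φ, ∃ g ∈ Subgroup.closure (refl (q5 F) '' Φ), g.1 u = w := by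
    have : ∀ u ∈ Φ, ∃ g ∈ Subgroup.closure (refl (q5 F) '' Φ), g.1 v = u := by
      rintro _ ⟨a, rfl | rfl⟩
      exacts [⟨_, (a6 a).1, rfl⟩, ⟨_, mul_mem a7 (a6 a).1, rfl⟩]
    intro u hu w hw
    obtain ⟨g, hg, rfl⟩ := this u hu
    obtain ⟨g', hg', rfl⟩ := this w hw
    exact ⟨_, mul_mem hg' (inv_mem hg), by simp [O.mul_apply]⟩
  have a11 : ∀ x ∈ Φ, ∀ w ∈ Φ, (refl (q5 F) x).1 w ∈ Φ := fun x hx =>
    a9 _ (Subgroup.subset_closure ⟨x, hx, rfl⟩)
  have R : RK (Subgroup.closure (refl (q5 F) '' Φ)) Φ := by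
    refine ⟨nd_q5, two_ne_zero, a8, fun w hw => Subgroup.subset_closure ⟨w, hw, rfl⟩, a9,
      fun M hM => h.irr5 fun a => refl_ind (p := fun g => ∀ w ∈ M, g.1 w ∈ M) (fun _ h => h)
        (fun x hx g hg w hw => ?_) (a6 a).1, fun k hk => ?_, a10⟩
    · rw [O.mul_apply]
      rcases hM x hx with b | b
      · rw [refl_apply]; exact sub_mem (hg w hw) (M.smul_mem _ b)
      · rw [refl_apply_of_perp (mem_perp'.1 b _ (hg w hw))]; exact hg w hw
    have H : RS (fun x y : Φ => polar (q5 F) x.1 y.1)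
        fun x w => ⟨(refl _ x.1).1 w.1, a11 _ x.2 _ w.2⟩ :=
      ⟨fun x y => polar_comm _ _ _, fun x => by simp [polar_self', a8 _ x.2], fun x w u => by
        simp [refl_apply, a8 _ x.2, polar_sub_left]⟩
    refine h.eq_top_of_ev one_ne_zero (fun x hx y hy => ?_) fun g hg => (a6 ⟨g, hg⟩).2 k
    rw [div_one]
    refine H.descent k.toSubring (fun x y a b c => ?_) (fun a b => ?_) (fun x y => hk _ x.2 _ y.2)
      (fun v T hv hT w => ?_) ⟨x, hx⟩ ⟨y, hy⟩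
    · simpa [b] using k.div_mem c (hk _ x.2 _ y.2)
    · simpa [mul_div_cancel_left₀ a (two_ne_zero (α := F))] using k.div_mem b (natCast_mem k 2)
    · obtain ⟨g, hg, e⟩ := a10 _ v.2 _ w.2
      obtain ⟨u, hu, e'⟩ := refl_ind (p := fun g => ∃ u ∈ T, u.1 = g.1 v.1) ⟨v, hv, rfl⟩
        (fun x hx g ⟨u, hu, e⟩ => ⟨_, hT ⟨x, hx⟩ u hu, by rw [O.mul_apply, ← e]⟩) hg
      exact (Subtype.ext (e'.trans e) : u = w) ▸ hu
  refine hP (h.eq_sp fun s => ?_)
  obtain ⟨a, b | b⟩ := a4 _ (R.commutator_le finrank_V le_rfl a7 (x := phi s) (by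
    have : s ∈ commutator (spGL 2 F) := commutator_sp.ge trivial
    exact Subgroup.commutator_mono le_top le_top ((Subgroup.map_commutator _ _ phi).le ⟨s, this, rfl⟩)))
  · exact ⟨a, b⟩
  · exact (phi_ne_neg (s * (Subgroup.inclusion h.le a)⁻¹)
      (by rw [map_mul, map_inv, b]; exact mul_inv_cancel_right _ _)).elim

end Cfsg.Lib.Sp4O
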