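import Cfsg.Agent.Lib.Symp.Four
import Cfsg.Agent.Lib.OMax.ReflDick

/-!
# The Clifford model of `Sp₄ → O₅`
-/

set_option autoImplicit false

namespace Cfsg.Lib.Sp4O

open QuadraticMap Module Matrix Cfsg.Lib.Orth Cfsg.Lib.OMax Cfsg.Geo
open scoped MatrixGroups

variable {F : Type*} [Field F]

/-- the index set -/
abbrev I4 := Fin 2 ⊕ Fin 2

/-- `4 × 4` matrices -/
abbrev M4 (F : Type*) := Matrix I4 I4 F

/-- the five-dimensional module -/
abbrev V (F : Type*) := Fin 5 → F

/-- The symplectic adjoint. -/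
def ad (A : M4 F) : M4 F := -(J (Fin 2) F * Aᵀ * J (Fin 2) F)

theorem ad_mul (A B : M4 F) : ad (A * B) = ad B * ad A := by
  simp only [ad, transpose_mul, _root_.neg_mul_neg, Matrix.mul_assoc]
  rw [← Matrix.mul_assoc (J _ F) (J _ F), J_squared]; simp

theorem ad_add (A B : M4 F) : ad (A + B) = ad A + ad B := by
  simp only [ad, transpose_add, mul_add, add_mul, neg_add]

theorem ad_smul (c : F) (A : M4 F) : ad (c • A) = c • ad A := by simp [ad]

theorem ad_neg (A : M4 F) : ad (-A) = -ad A := by simp [ad]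

theorem ad_sub (A B : M4 F) : ad (A - B) = ad A - ad B := by
  rw [sub_eq_add_neg, ad_add, ad_neg, ← sub_eq_add_neg]

theorem ad_one : ad (1 : M4 F) = 1 := by simp [ad, J_squared]

theorem ad_ad (A : M4 F) : ad (ad A) = A := by
  simp only [ad, transpose_neg, transpose_mul, J_transpose, transpose_transpose, mul_neg, neg_mul,
    neg_neg, ← Matrix.mul_assoc, J_squared]
  rw [Matrix.mul_assoc, J_squared]; simp

theorem trace_ad (A : M4 F) : (ad A).trace = A.trace := by
  rw [ad, trace_neg, trace_mul_cycle, J_squared]; simp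

theorem symp_ad (A : M4 F) (u v : I4 → F) :
    sympForm 2 F (A *ᵥ u) v = sympForm 2 F u (ad A *ᵥ v) := by
  rw [sympForm, sympForm, mulVec_mulVec, ad, mul_neg, ← Matrix.mul_assoc, ← Matrix.mul_assoc,
    J_squared, ← vecMul_transpose, ← dotProduct_mulVec, mulVec_mulVec]
  simp

theorem symp_swap (u v : I4 → F) : sympForm 2 F u v = -sympForm 2 F v u := by
  simp [sympForm, J, mulVec, dotProduct, Fintype.sum_sum_type, Fin.sum_univ_two]; ring

theorem symp_nd {v : I4 → F} (h : ∀ u, sympForm 2 F u v = 0) : v = 0 := by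
  have h1 : J (Fin 2) F *ᵥ v = 0 := funext fun i => by simpa [sympForm] using h (Pi.single i 1)
  have := congrArg (J (Fin 2) F *ᵥ ·) h1
  simpa [mulVec_mulVec, J_squared, neg_mulVec] using this

theorem mem_sp {g : GL I4 F} : g ∈ spGL 2 F ↔ ad g.1 * g.1 = 1 := by
  refine ⟨fun h => matrix_ext_mulVec fun v => sub_eq_zero.1 (symp_nd fun u => ?_), fun h u v => ?_⟩
  · have := h u v
    change sympForm 2 F (g.1 *ᵥ u) (g.1 *ᵥ v) = _ at this
    rw [symp_ad, mulVec_mulVec] at this
    rw [one_mulVec, sympForm, mulVec_sub, dotProduct_sub, sub_eq_zero]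
    exact this
  · change sympForm 2 F (g.1 *ᵥ u) (g.1 *ᵥ v) = _
    rw [symp_ad, mulVec_mulVec, h, one_mulVec]

theorem ad_eq {g : GL I4 F} (h : g ∈ spGL 2 F) : ad g.1 = (g⁻¹).1 :=
  (Units.inv_eq_of_mul_eq_one_left (mem_sp.1 h)).symm

theorem ad_inv {g : GL I4 F} (h : g ∈ spGL 2 F) : ad (g⁻¹).1 = g.1 := by rw [← ad_eq h, ad_ad]

theorem trace_inv {g : GL I4 F} (h : g ∈ spGL 2 F) : (g⁻¹).1.trace = g.1.trace := by
  rw [← ad_eq h, trace_ad]

theorem neg_mem_sp {g : GL I4 F} (h : g ∈ spGL 2 F) : -g ∈ spGL 2 F := by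
  rw [mem_sp] at h ⊢
  simpa [ad_neg] using h

theorem scalar_of_sp {g : GL I4 F} (h : g ∈ spGL 2 F) {c : F} (hc : g.1 = c • 1) :
    g = 1 ∨ g = -1 := by
  rw [mem_sp, hc, ad_smul, ad_one, smul_mul_smul_comm, mul_one] at h
  have := congrFun (congrFun h (.inl 0)) (.inl 0)
  simp only [Matrix.smul_apply, one_apply_eq, smul_eq_mul, mul_one] at this
  refine (mul_self_eq_one_iff.1 this).imp (fun e => Units.ext ?_) fun e => Units.ext ?_ <;>
    simp [hc, e]

/-- The self-adjoint traceless matrices. -/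
def gam : V F →ₗ[F] M4 F where
  toFun x := fromBlocks !![x 0, x 1; x 2, -x 0] !![0, x 3; -x 3, 0] !![0, x 4; -x 4, 0]
    !![x 0, x 2; x 1, -x 0]
  map_add' x y := by
    ext (i | i) (j | j) <;> fin_cases i <;> fin_cases j <;> simp <;> ring
  map_smul' c x := by
    ext (i | i) (j | j) <;> fin_cases i <;> fin_cases j <;> simp

theorem gam_apply (x : V F) : gam x = fromBlocks !![x 0, x 1; x 2, -x 0] !![0, x 3; -x 3, 0]
    !![0, x 4; -x 4, 0] !![x 0, x 2; x 1, -x 0] := rfl

/-- Coordinates. -/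
def co : M4 F →ₗ[F] V F where
  toFun A := ![A (.inl 0) (.inl 0), A (.inl 0) (.inl 1), A (.inl 1) (.inl 0), A (.inl 0) (.inr 1),
    A (.inr 0) (.inl 1)]
  map_add' x y := by ext i; fin_cases i <;> simp
  map_smul' c x := by ext i; fin_cases i <;> simp

theorem co_gam (x : V F) : co (gam x) = x := by
  ext i; fin_cases i <;> simp [co, gam_apply]

theorem gam_inj : Function.Injective (gam : V F → M4 F) :=
  Function.LeftInverse.injective co_gam

theorem gam_eq_zero {x : V F} : gam x = 0 ↔ x = 0 := map_eq_zero_iff _ gam_inj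

variable (F) in
/-- The quadratic form. -/
def q5 : QuadraticForm F (V F) := proj 0 0 + proj 1 2 - proj 3 4

theorem q5_apply (x : V F) : q5 F x = x 0 * x 0 + x 1 * x 2 - x 3 * x 4 := by simp [q5]

theorem polar_q5 (x y : V F) : polar (q5 F) x y =
    2 * x 0 * y 0 + x 1 * y 2 + x 2 * y 1 - x 3 * y 4 - x 4 * y 3 := by
  simp only [polar, q5_apply, Pi.add_apply]; ring

theorem gam_mul_self (x : V F) : gam x * gam x = q5 F x • 1 := by
  ext (i | i) (j | j) <;> fin_cases i <;> fin_cases j <;>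
    simp [gam_apply, q5_apply, mul_apply, Fintype.sum_sum_type, Fin.sum_univ_two] <;> ring

theorem gam_anti (x y : V F) : gam x * gam y + gam y * gam x = polar (q5 F) x y • 1 := by
  have := gam_mul_self (x + y)
  rw [map_add, add_mul, mul_add, mul_add, gam_mul_self, gam_mul_self, Q_add, add_smul,
    add_smul] at this
  linear_combination (norm := module) this

theorem ad_gam (x : V F) : ad (gam x) = gam x := by
  ext (i | i) (j | j) <;> fin_cases i <;> fin_cases j <;>
    simp [ad, J, gam_apply, mul_apply, Fintype.sum_sum_type, Fin.sum_univ_two]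

theorem trace_gam (x : V F) : (gam x).trace = 0 := by
  simp [gam_apply, trace, Fintype.sum_sum_type, Fin.sum_univ_two]

theorem trace_smul_one (c : F) : (c • (1 : M4 F)).trace = 4 * c := by
  simp [mul_comm]

theorem finrank_V : finrank F (V F) = 5 := by simp

variable [NeZero (2 : F)]

theorem four_ne : (4 : F) ≠ 0 := by
  rw [show (4 : F) = 2 * 2 by norm_num]; exact mul_ne_zero two_ne_zero two_ne_zero

theorem nd_q5 : ND (q5 F) := (nd_iff _).2 fun x h => by
  have h0 := h (Pi.single 0 1)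
  have h1 := h (Pi.single 1 1)
  have h2 := h (Pi.single 2 1)
  have h3 := h (Pi.single 3 1)
  have h4 := h (Pi.single 4 1)
  simp [polar_q5, two_ne_zero] at h0 h1 h2 h3 h4
  ext i; fin_cases i <;> assumption

theorem gam_co {A : M4 F} (h : ad A = A) (h0 : A.trace = 0) : gam (co A) = A := by
  have e := fun i j => congrFun (congrFun h i) j
  have e1 := e (.inl 0) (.inl 0)
  have e2 := e (.inl 0) (.inl 1)
  have e3 := e (.inl 1) (.inl 0)
  have e4 := e (.inl 1) (.inl 1)
  have e5 := e (.inl 0) (.inr 0)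
  have e6 := e (.inl 0) (.inr 1)
  have e7 := e (.inl 1) (.inr 1)
  have e8 := e (.inr 0) (.inl 0)
  have e9 := e (.inr 0) (.inl 1)
  have e10 := e (.inr 1) (.inl 1)
  simp [ad, J, mul_apply, Fintype.sum_sum_type, Fin.sum_univ_two] at e1 e2 e3 e4 e5 e6 e7 e8 e9 e10
  simp [trace, Fintype.sum_sum_type, Fin.sum_univ_two] at h0
  ext (i | i) (j | j) <;> fin_cases i <;> fin_cases j <;> simp [gam_apply, co] <;>
    apply mul_left_cancel₀ (two_ne_zero (α := F)) <;> grind

theorem exists_gam {A : M4 F} (h : ad A = A) : ∃ x, A = (A.trace / 4) • 1 + gam x :=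
  ⟨_, by
    rw [gam_co (A := A - (A.trace / 4) • 1) (by rw [ad_sub, ad_smul, ad_one, h])
      (by rw [trace_sub, trace_smul_one, mul_div_cancel₀ _ four_ne, sub_self])]
    simp⟩

theorem eq_zero_of_gam_scalar {x : V F} {c : F} (h : gam x = c • 1) : x = 0 := by
  have := congrArg trace h
  rw [trace_gam, trace_smul_one, eq_comm, mul_eq_zero, or_iff_right four_ne] at this
  rwa [this, zero_smul, gam_eq_zero] at h

theorem gam_co_conj {g : GL I4 F} (h : g ∈ spGL 2 F) (x : V F) :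
    gam (co (g.1 * gam x * (g⁻¹).1)) = g.1 * gam x * (g⁻¹).1 :=
  gam_co (by rw [ad_mul, ad_mul, ad_gam, ad_eq h, ad_inv h, Matrix.mul_assoc])
    (by rw [trace_mul_cycle, Units.inv_mul, one_mul, trace_gam])

omit [NeZero (2 : F)] in
/-- Conjugation in coordinates. -/
def act (A B : M4 F) : V F →ₗ[F] V F :=
  co ∘ₗ LinearMap.mulRight F B ∘ₗ LinearMap.mulLeft F A ∘ₗ gam

omit [NeZero (2 : F)] in
theorem act_apply (A B : M4 F) (x : V F) : act A B x = co (A * gam x * B) := rfl

theorem gam_act {g : GL I4 F} (h : g ∈ spGL 2 F) (x : V F) :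
    gam (act g.1 (g⁻¹).1 x) = g.1 * gam x * (g⁻¹).1 := by rw [act_apply, gam_co_conj h]

theorem q5_act {g : GL I4 F} (h : g ∈ spGL 2 F) (x : V F) :
    q5 F (act g.1 (g⁻¹).1 x) = q5 F x := by
  have := gam_mul_self (act g.1 (g⁻¹).1 x)
  rw [gam_act h] at this
  simp only [Matrix.mul_assoc, Units.inv_mul_cancel_left, ← Matrix.mul_assoc (gam x),
    gam_mul_self, smul_mul_assoc, mul_smul_comm, one_mul, Units.mul_inv] at this
  exact (smul_left_injective F one_ne_zero this).symm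

/-- The action on the five-dimensional module. -/
noncomputable def phi : spGL 2 F →* O (q5 F) := MonoidHom.mk'
  (fun g => O.ofLinear nd_q5 (act g.1.1 (g.1⁻¹).1) (q5_act g.2))
  fun g h => O.ext fun x => gam_inj (by
    rw [O.mul_apply, O.ofLinear_apply, O.ofLinear_apply, O.ofLinear_apply, gam_act (g * h).2,
      gam_act g.2, gam_act h.2]
    simp [Matrix.mul_assoc])

theorem phi_coe (g : spGL 2 F) : ((phi g).1 : V F →ₗ[F] V F) = act g.1.1 (g.1⁻¹).1 :=
  LinearMap.ext fun x => O.ofLinear_apply nd_q5 _ (q5_act g.2) x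

theorem gam_phi (g : spGL 2 F) (x : V F) : gam ((phi g).1 x) = g.1.1 * gam x * (g.1⁻¹).1 := by
  rw [← gam_act g.2, ← phi_coe]; rfl

theorem phi_eq_iff {g : spGL 2 F} {x y : V F} :
    (phi g).1 x = y ↔ g.1.1 * gam x = gam y * g.1.1 := by
  rw [← gam_inj.eq_iff, gam_phi, Units.mul_inv_eq_iff_eq_mul]

omit [NeZero (2 : F)] in
theorem gam_refl {x : V F} (hx : q5 F x ≠ 0) (y : V F) :
    gam x * gam y = -gam ((refl (q5 F) x).1 y) * gam x := by
  rw [refl_apply, map_sub, map_smul, eq_sub_of_add_eq (gam_anti x y), neg_sub, sub_mul,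
    smul_mul_assoc, gam_mul_self, smul_smul]
  match_scalars <;> field_simp

theorem exists_rr {x y : V F} {c : F} (hc : c ≠ 0) (h : q5 F x * q5 F y = c ^ 2) :
    ∃ g : spGL 2 F, g.1.1 = c⁻¹ • (gam x * gam y) ∧ phi g = refl _ x * refl _ y := by
  have h0 := mul_ne_zero_iff.1 (h ▸ pow_ne_zero 2 hc)
  have h1 : ad (c⁻¹ • (gam x * gam y)) * (c⁻¹ • (gam x * gam y)) = 1 := by
    rw [ad_smul, ad_mul, ad_gam, ad_gam, smul_mul_smul_comm, Matrix.mul_assoc,
      ← Matrix.mul_assoc (gam x), gam_mul_self, smul_mul_assoc, one_mul, mul_smul_comm,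
      gam_mul_self, smul_smul, smul_smul, mul_assoc, h]
    match_scalars; field_simp
  refine ⟨⟨Units.mkOfMulEqOne _ _ (mul_eq_one_comm.1 h1), mem_sp.2 h1⟩, rfl,
    O.ext fun v => phi_eq_iff.2 ?_⟩
  change (c⁻¹ • (gam x * gam y)) * _ = _ * (c⁻¹ • (gam x * gam y))
  rw [smul_mul_assoc, mul_smul_comm, Matrix.mul_assoc, gam_refl h0.2, ← Matrix.mul_assoc, mul_neg,
    gam_refl h0.1 ((refl _ y).1 v), O.mul_apply]
  simp [Matrix.mul_assoc]

theorem phi_of_gam {g : spGL 2 F} {x : V F} (h : g.1.1 = gam x) :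
    q5 F x = 1 ∧ phi g = O.neg _ * refl _ x := by
  have h1 := mem_sp.1 g.2
  rw [h, ad_gam, gam_mul_self] at h1
  have h2 : q5 F x = 1 := smul_left_injective F one_ne_zero (h1.trans (one_smul F _).symm)
  refine ⟨h2, O.ext fun v => phi_eq_iff.2 ?_⟩
  rw [h, O.mul_apply, O.neg_apply, map_neg, gam_refl (by simp [h2])]

theorem exists_gam_of_inv {g : GL I4 F} (hg : g ∈ spGL 2 F) (h : g * g = 1) (h1 : g ≠ 1)
    (h2 : g ≠ -1) : ∃ x, g.1 = gam x := by
  obtain ⟨x, hx⟩ := exists_gam (A := g.1) (by rw [ad_eq hg, inv_eq_of_mul_eq_one_left h])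
  generalize g.1.trace / 4 = c at hx
  refine ⟨x, by_contra fun hn => ?_⟩
  have hc : c ≠ 0 := by rintro rfl; exact hn (by simpa using hx)
  have h3 : g.1 * g.1 = 1 := congrArg Units.val h
  rw [hx, add_mul, mul_add, mul_add, gam_mul_self] at h3
  have h4 : gam ((2 * c) • x) = (1 - c * c - q5 F x) • 1 := by
    rw [map_smul]
    simp only [smul_mul_assoc, mul_smul_comm, one_mul, mul_one] at h3
    linear_combination (norm := module) h3
  have h5 := eq_zero_of_gam_scalar h4
  rw [smul_eq_zero, or_iff_right (mul_ne_zero two_ne_zero hc)] at h5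
  exact (scalar_of_sp hg (c := c) (by simpa [h5] using hx)).elim h1 h2

theorem scalar_of_comm {A : M4 F} (h : ∀ x, A * gam x = gam x * A) : ∃ c : F, A = c • 1 := by
  have e := fun k i j => congrFun (congrFun (h (Pi.single k 1)) i) j
  have e1 := e 0 (.inl 0) (.inl 1)
  have e2 := e 0 (.inl 1) (.inl 0)
  have e3 := e 0 (.inl 0) (.inr 1)
  have e4 := e 0 (.inl 1) (.inr 0)
  have e5 := e 0 (.inr 0) (.inl 1)
  have e6 := e 0 (.inr 1) (.inl 0)
  have e7 := e 0 (.inr 0) (.inr 1)
  have e8 := e 0 (.inr 1) (.inr 0)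
  have e9 := e 1 (.inl 0) (.inl 1)
  have e10 := e 1 (.inl 0) (.inr 0)
  have e11 := e 1 (.inr 1) (.inr 0)
  have e12 := e 3 (.inl 0) (.inr 1)
  have e13 := e 1 (.inr 1) (.inl 1)
  have e14 := e 2 (.inl 1) (.inr 1)
  have e15 := e 2 (.inr 0) (.inl 0)
  have e16 := e 3 (.inl 0) (.inl 1)
  have e17 := e 4 (.inr 0) (.inr 1)
  have e18 := e 3 (.inl 1) (.inl 0)
  have e19 := e 4 (.inr 1) (.inr 0)
  simp [gam_apply, mul_apply, Fintype.sum_sum_type, Fin.sum_univ_two] at e1 e2 e3 e4 e5 e6 e7 e8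
  simp [gam_apply, mul_apply, Fintype.sum_sum_type, Fin.sum_univ_two] at e9 e10 e11 e12 e13 e14
  simp [gam_apply, mul_apply, Fintype.sum_sum_type, Fin.sum_univ_two] at e15 e16 e17 e18 e19
  refine ⟨A (.inl 0) (.inl 0), ?_⟩
  ext (i | i) (j | j) <;> fin_cases i <;> fin_cases j <;> simp <;>
    apply mul_left_cancel₀ (two_ne_zero (α := F)) <;> grind

theorem phi_eq_one {g : spGL 2 F} : phi g = 1 ↔ g.1 = 1 ∨ g.1 = -1 := by
  refine ⟨fun h => ?_, fun h => O.ext fun x => phi_eq_iff.2 ?_⟩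
  · obtain ⟨c, hc⟩ := scalar_of_comm (A := g.1.1) fun x => phi_eq_iff.1 (by rw [h]; rfl)
    exact scalar_of_sp g.2 hc
  · rcases h with h | h <;> simp [h, O.one_apply]

theorem phi_ne_neg (g : spGL 2 F) : phi g ≠ O.neg _ := fun h => by
  have h1 : ∀ x, g.1.1 * gam x = -(gam x * g.1.1) := fun x => by
    rw [phi_eq_iff.1 (show (phi g).1 x = -x by rw [h]; rfl), map_neg, neg_mul]
  have h2 : gam (Pi.single 0 1) * gam ![0, 1, 1, 0, 0] * gam ![0, 1, -1, 0, 0] *
      gam ![0, 0, 0, 1, 1] * gam ![0, 0, 0, 1, -1] = (-1 : M4 F) := by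
    ext (i | i) (j | j) <;> fin_cases i <;> fin_cases j <;>
      simp [gam_apply, mul_apply, Fintype.sum_sum_type, Fin.sum_univ_two]
  have h3 : g.1.1 * -1 = -(-1 * g.1.1) := by
    rw [← h2]
    simp only [← Matrix.mul_assoc, h1, neg_mul, neg_neg]
    simp only [Matrix.mul_assoc, h1, neg_mul, mul_neg, neg_neg]
  have h4 : (2 : F) • g.1.1 = 0 := by
    rw [mul_neg, mul_one, neg_mul, one_mul, neg_neg] at h3
    rw [two_smul]; exact add_eq_zero_iff_neg_eq.2 h3
  exact g.1.ne_zero ((smul_eq_zero.1 h4).resolve_left two_ne_zero)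

theorem trace_phi (g : spGL 2 F) : 2 * LinearMap.trace F _ ((phi g).1 : V F →ₗ[F] V F) =
    g.1.1.trace ^ 2 - (g.1.1 * g.1.1).trace - 2 := by
  have key : ∀ A : M4 F, 4 * LinearMap.trace F _ (act A (ad A)) = 2 * (A.trace ^ 2 -
      (A * A).trace) - (ad A * A).trace + (gam (Pi.single 0 1) * (ad A * A)).trace := fun A => by
    rw [LinearMap.trace_eq_matrix_trace F (Pi.basisFun F _)]
    simp [trace, LinearMap.toMatrix_apply, act_apply, co, Fin.sum_univ_five, Fin.sum_univ_two, ad, J, gam_apply,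
      mul_apply, Fintype.sum_sum_type]
    ring
  have := key g.1.1
  rw [mem_sp.1 g.2, ad_eq g.2, ← phi_coe, mul_one, trace_gam] at this
  apply mul_left_cancel₀ (two_ne_zero (α := F))
  simp at this
  linear_combination this

theorem exists_ch {g : GL I4 F} (h : g ∈ spGL 2 F) :
    ∃ x, g.1 + (g⁻¹).1 = (g.1.trace / 2) • 1 + gam x := by
  obtain ⟨x, hx⟩ := exists_gam (A := g.1 + (g⁻¹).1) (by rw [ad_add, ad_eq h, ad_inv h, add_comm])
  refine ⟨x, hx.trans ?_⟩
  rw [trace_add, trace_inv h]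
  congr 2
  rw [div_eq_div_iff four_ne two_ne_zero]; ring

theorem commutator_le_range [Finite F] : commutator (O (q5 F)) ≤ phi.range := by
  obtain ⟨e, h0, he⟩ := exists_singular (q5 F) (by simp)
  refine (commutator_le_eichGroup nd_q5 he h0 (by simp)).trans (eichGroup_le fun u z _ _ =>
    eich_mem_of_nonsingular nd_q5 (not_exc_of_two_ne_zero two_ne_zero) (fun z h1 h2 h3 => ?_) z)
  obtain ⟨g, -, hg⟩ := exists_rr (x := z) (y := z - q5 F z • u) h3
    (by rw [Q_sub_smul_of_singular h1 h2, pow_two])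
  exact ⟨g, by rw [hg, eich_eq_refl_mul_refl h1 h2 h3]⟩

theorem commutator_sp [Finite F] : commutator (spGL 2 F) = ⊤ := by
  have h := Symp.commutator_sp_eq_top (l := Fin 2) (F := F) (.inr (.inl ⟨by simp, -1, by simp,
    fun h => two_ne_zero (α := F) (by linear_combination -h)⟩))
  let e := (MonoidHom.ofInjective (Symp.spι_injective (F := F))).trans
    (MulEquiv.subgroupCongr Symp.range_spι)
  rw [← map_commutator_equiv e, h, ← MonoidHom.range_eq_map, MonoidHom.range_eq_top]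
  exact e.surjective

/-- Orbits of `Sp₄(q)` on non-zero vectors are long. -/
theorem card_le_of_inv [Finite F] {D : Set (V F)} (h : ∀ g : spGL 2 F, ∀ x ∈ D, (phi g).1 x ∈ D)
    {v : V F} (hv : v ∈ D) (h0 : v ≠ 0) : Nat.card F ^ 3 ≤ D.ncard := by
  obtain ⟨e, he, hev⟩ : ∃ e, q5 F e = 0 ∧ polar (q5 F) e v ≠ 0 := by
    by_contra! hc
    have h1 := hc (Pi.single 1 1) (by simp [q5_apply])
    have h2 := hc (Pi.single 2 1) (by simp [q5_apply])
    have h3 := hc (Pi.single 3 1) (by simp [q5_apply])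
    have h4 := hc (Pi.single 4 1) (by simp [q5_apply])
    have h5 := hc ![1, 1, -1, 0, 0] (by simp [q5_apply])
    simp [polar_q5] at h1 h2 h3 h4 h5
    simp [h1, h2, two_ne_zero] at h5
    exact h0 (by ext i; fin_cases i <;> assumption)
  obtain ⟨f, hf⟩ := exists_isHyp nd_q5 he (by rintro rfl; simp at hev)
  have h3 := hf.finrank_hperp nd_q5
  rw [finrank_V] at h3
  rw [show 3 = finrank F (hperp (q5 F) e f) by omega, ← card_eq_pow, ← Nat.card_coe_set_eq]
  refine Nat.card_le_card_of_injective (fun z => ⟨(eich (q5 F) e z.1).1 v, ?_⟩) fun z z' hz => ?_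
  · obtain ⟨g, hg⟩ := commutator_le_range
      (eich_mem_commutator nd_q5 (not_exc_of_two_ne_zero two_ne_zero) e z.1)
    exact hg ▸ h g v hv
  · have h1 := mem_hperp.1 z.2
    have h2 := mem_hperp.1 z'.2
    have h4 := congrArg Subtype.val hz
    simp only [eich_apply he h1.1, eich_apply he h2.1] at h4
    have h5 := congrArg (polar (q5 F) f) h4
    simp only [polar_sub_right, polar_add_right, polar_smul_right', h1.2, h2.2, hf.polar_eq'] at h5
    refine Subtype.ext (smul_right_injective _ hev ?_)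
    linear_combination (norm := module) h5 • e - h4

end Cfsg.Lib.Sp4O
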