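import Mathlib

/-!
# Abstract reflection systems: descent of the form; finite real systems containing `-1`
-/

set_option autoImplicit false

namespace Cfsg.Lib.Sp4O

open Equiv Submodule
open scoped NNReal

/-- A reflection system with normalised form `B`. -/
structure RS {Φ R : Type*} [CommRing R] (B : Φ → Φ → R) (s : Φ → Φ → Φ) : Prop where
  symm : ∀ x y, B x y = B y x
  self : ∀ x, B x x = 2
  refl : ∀ x w u, B (s x w) u = B w u - B x w * B x u

namespace RS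

variable {Φ : Type*} {s : Φ → Φ → Φ}

section Ring

variable {R : Type*} [CommRing R] {B : Φ → Φ → R} (h : RS B s)
include h

theorem refl' (x w u : Φ) : B u (s x w) = B u w - B x w * B x u := by
  rw [h.symm, h.refl, h.symm w]

theorem inv (x w u : Φ) : B (s x w) (s x u) = B w u := by
  rw [h.refl, h.refl', h.refl', h.self]; ring

theorem map {R' : Type*} [CommRing R'] (f : R →+* R') : RS (fun x y => f (B x y)) s :=
  ⟨fun x y => by rw [h.symm], fun x => by rw [h.self, map_ofNat],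
    fun x w u => by rw [h.refl, map_sub, map_mul]⟩

/-- Descent: a subring "closed under division" containing the squares contains the values. -/
theorem descent (k : Subring R) (hk : ∀ x y a, B x y ≠ 0 → a * B x y ^ 2 ∈ k → a ∈ k)
    (h2 : ∀ a, 2 * a ∈ k → a ∈ k) (hs : ∀ x y, B x y ^ 2 ∈ k)
    (hc : ∀ (v : Φ) (T : Set Φ), v ∈ T → (∀ x, ∀ w ∈ T, s x w ∈ T) → ∀ w, w ∈ T) (v w : Φ) :
    B v w ∈ k := by
  have tri : ∀ x y z, B x y * B y z * B z x ∈ k := fun x y z => h2 _ (by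
    convert k.sub_mem (k.add_mem (hs y z) (k.mul_mem (hs x y) (hs z x))) (hs (s x y) z) using 1
    rw [h.refl, h.symm x z]; ring)
  refine h2 _ (h.self v ▸ hc v {w | ∀ u, B v u * B u w ∈ k} (fun u => ?_) (fun x w hw u => ?_) w v)
  · rw [h.symm u, ← sq]; exact hs v u
  rw [h.refl', mul_sub]
  refine k.sub_mem (hw u) ?_
  by_cases h1 : B v x = 0
  · by_cases h3 : B u w = 0
    · convert k.neg_mem (hw (s x u)) using 1
      rw [h.refl, h.refl', h3, h.symm x v, h1]; ring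
    · refine hk u w _ h3 ?_
      convert k.mul_mem (hw u) (tri u x w) using 1
      rw [h.symm x u, h.symm w u]; ring
  · refine hk v x _ h1 ?_
    convert k.mul_mem (hw x) (tri v u x) using 1
    rw [h.symm x u, h.symm x v]; ring

/-- Parseval's identity from a factorisation of `-1`. -/
theorem foldr_eq {l : List Φ} (hl : l.Pairwise (B · · = 0)) (w u : Φ) :
    B (l.foldr s w) u = B w u - (l.map fun r => B r w * B r u).sum := by
  induction l generalizing u with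
  | nil => simp
  | cons r l ih =>
    rw [List.pairwise_cons] at hl
    rw [List.foldr_cons, h.refl, ih hl.2, h.symm r, ih hl.2, List.map_cons, List.sum_cons,
      List.sum_eq_zero (l := l.map fun t => B t w * B t r) (by
        simp only [List.mem_map, forall_exists_index, and_imp]
        rintro _ t ht rfl
        rw [h.symm t r, hl.1 t ht, mul_zero]), h.symm w r]
    ring

end Ring

variable {B : Φ → Φ → ℝ}

/-- A real system with separated roots. -/
structure Re (B : Φ → Φ → ℝ) (s : Φ → Φ → Φ) : Prop extends RS B s where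
  sep : ∀ v w, B v w = 2 → v = w

namespace Re

variable (h : Re B s)
include h

theorem ext {v w : Φ} (e : B v = B w) : v = w := h.sep v w (by rw [e, h.self])

theorem ss (x w : Φ) : s x (s x w) = w := h.ext (funext fun u => by
  rw [h.refl, h.refl, h.toRS.refl', h.self]; ring)

/-- The reflections as permutations. -/
def pm (x : Φ) : Perm Φ := Function.Involutive.toPerm (s x) (h.ss x)

theorem pm_apply (x w : Φ) : h.pm x w = s x w := rfl

theorem pm_mul_self (x : Φ) : h.pm x * h.pm x = 1 := Equiv.ext (h.ss x)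

theorem B_s (x w : Φ) : B (s x w) = B w - B x w • B x := funext fun u => h.refl x w u

theorem B_neg (x : Φ) : B (s x x) = -B x := by rw [h.B_s, h.self]; module

theorem s_of_perp {x w : Φ} (e : B x w = 0) : s x w = w := h.ext (by simp [h.B_s, e])

theorem pm_neg (x : Φ) : h.pm (s x x) = h.pm x := Equiv.ext fun w => h.ext (by
  simp [pm_apply, h.B_s w, h.B_s (s x x), h.B_neg, h.B_s x w])

/-- The group generated by the reflections in `Ψ`. -/
def W (Ψ : Set Φ) : Subgroup (Perm Φ) := Subgroup.closure (h.pm '' Ψ)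

theorem pm_mem {Ψ : Set Φ} {x : Φ} (hx : x ∈ Ψ) : h.pm x ∈ h.W Ψ :=
  Subgroup.subset_closure ⟨x, hx, rfl⟩

variable [Finite Φ]

theorem exists_list {Ψ : Set Φ} {g : Perm Φ} (hg : g ∈ h.W Ψ) :
    ∃ l : List Φ, (∀ x ∈ l, x ∈ Ψ) ∧ (l.map h.pm).prod = g := by
  rw [W, ← Subgroup.mem_toSubmonoid, Subgroup.closure_toSubmonoid_of_finite] at hg
  induction hg using Submonoid.closure_induction_left with
  | one => exact ⟨[], by simp, rfl⟩
  | mul_left _ hx _ _ ih =>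
    obtain ⟨x, hx, rfl⟩ := hx
    obtain ⟨l, h1, rfl⟩ := ih
    exact ⟨x :: l, by simpa [hx] using h1, rfl⟩

theorem ind {Ψ : Set Φ} {p : Perm Φ → Prop} (h1 : p 1) (h2 : ∀ x ∈ Ψ, ∀ g, p g → p (h.pm x * g))
    {g : Perm Φ} (hg : g ∈ h.W Ψ) : p g := by
  obtain ⟨l, hl, rfl⟩ := h.exists_list hg
  clear hg
  induction l with
  | nil => exact h1
  | cons x l ih => exact h2 x (hl x (by simp)) _ (ih fun y hy => hl y (by simp [hy]))

variable {Ψ : Set Φ}

theorem B_W {g : Perm Φ} (hg : g ∈ h.W Ψ) (w u : Φ) : B (g w) (g u) = B w u :=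
  h.ind (p := fun g => B (g w) (g u) = B w u) rfl
    (fun x _ g e => (h.toRS.inv x _ _).trans e) hg

theorem W_s {g : Perm Φ} (hg : g ∈ h.W Ψ) (x w : Φ) : g (s x w) = s (g x) (g w) :=
  h.ext (funext fun u => by
    obtain ⟨u, rfl⟩ := g.surjective u
    rw [h.B_W hg, h.refl, h.refl, h.B_W hg, h.B_W hg, h.B_W hg])

theorem W_conj {g : Perm Φ} (hg : g ∈ h.W Ψ) (x : Φ) : g * h.pm x = h.pm (g x) * g :=
  Equiv.ext fun w => h.W_s hg x w

omit h [Finite Φ] in
/-- `Ψ` is closed under its reflections. -/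
def Cl (s : Φ → Φ → Φ) (Ψ : Set Φ) : Prop := ∀ x ∈ Ψ, ∀ w ∈ Ψ, s x w ∈ Ψ

theorem W_mem (hΨ : Cl s Ψ) {g : Perm Φ} (hg : g ∈ h.W Ψ) {w : Φ} (hw : w ∈ Ψ) : g w ∈ Ψ :=
  h.ind (p := fun g => g w ∈ Ψ) hw (fun x hx _ e => hΨ x hx _ e) hg

omit h [Finite Φ] in
theorem cone {D : Set Φ} {k : (Φ → ℝ) →ₗ[ℝ] ℝ} (hk : ∀ a ∈ D, 0 ≤ k (B a)) {v : Φ → ℝ}
    (hv : v ∈ span ℝ≥0 (B '' D)) : 0 ≤ k v ∧ ((∀ a ∈ D, 0 < k (B a)) → k v ≤ 0 → v = 0) := by
  induction hv using span_induction with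
  | mem x hx => obtain ⟨a, ha, rfl⟩ := hx; exact ⟨hk a ha, fun h1 h2 => absurd h2 (h1 a ha).not_ge⟩
  | zero => simp
  | add x y _ _ hx hy =>
    rw [map_add]
    exact ⟨add_nonneg hx.1 hy.1, fun h1 h2 => by
      rw [hx.2 h1 (by linarith [hy.1]), hy.2 h1 (by linarith [hx.1]), add_zero]⟩
  | smul c x _ hx =>
    rw [NNReal.smul_def, map_smul, smul_eq_mul]
    refine ⟨mul_nonneg c.2 hx.1, fun h1 h2 => ?_⟩
    rcases c.2.eq_or_lt with e | e
    · rw [show (c : ℝ) = 0 from e.symm, zero_smul]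
    · rw [hx.2 h1 (nonpos_of_mul_nonpos_right h2 e), smul_zero]

omit [Finite Φ] in
theorem pos_neg {f : (Φ → ℝ) →ₗ[ℝ] ℝ} {x : Φ} (h0 : f (B x) ≠ 0) (h1 : ¬ 0 < f (B x)) :
    0 < f (B (s x x)) := by
  rw [h.B_neg, map_neg]; exact neg_pos.2 (lt_of_le_of_ne (not_lt.1 h1) h0)

/-- Simple systems. -/
theorem exists_base (hΨ : Cl s Ψ) {f : (Φ → ℝ) →ₗ[ℝ] ℝ} (hf : ∀ x ∈ Ψ, f (B x) ≠ 0) :
    ∃ D ⊆ Ψ, (∀ a ∈ D, 0 < f (B a)) ∧ (∀ b ∈ Ψ, 0 < f (B b) → B b ∈ span ℝ≥0 (B '' D)) ∧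
      ∀ a ∈ D, ∀ b ∈ Ψ, 0 < f (B b) → b ≠ a → 0 < f (B (s a b)) := by
  obtain ⟨D, ⟨h1, h2, h3⟩, hm⟩ := exists_minimal_of_wellFoundedLT (fun D : Set Φ => D ⊆ Ψ ∧
    (∀ a ∈ D, 0 < f (B a)) ∧ ∀ b ∈ Ψ, 0 < f (B b) → B b ∈ span ℝ≥0 (B '' D))
    ⟨{a ∈ Ψ | 0 < f (B a)}, fun a ha => ha.1, fun a ha => ha.2,
      fun b a1 a2 => subset_span ⟨b, ⟨a1, a2⟩, rfl⟩⟩
  refine ⟨D, h1, h2, h3, fun a ha b hb b1 b2 => by_contra fun hn => ?_⟩
  have c1 := hΨ a (h1 ha) b hb
  have hD : B '' D = insert (B a) (B '' (D \ {a})) := by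
    rw [← Set.image_insert_eq, Set.insert_diff_singleton, Set.insert_eq_of_mem ha]
  have c2 := h3 _ (hΨ _ c1 _ c1) (h.pos_neg (hf _ c1) hn)
  have c3 := h3 b hb b1
  rw [hD, mem_span_insert] at c2 c3
  obtain ⟨p, u, hu, c2⟩ := c2
  obtain ⟨q, v, hv, c3⟩ := c3
  rw [h.B_neg, h.B_s, NNReal.smul_def] at c2
  rw [NNReal.smul_def] at c3
  have c4 : (B a b - p - q) • B a = u + v := by linear_combination (norm := module) c2 + c3
  have hp : ∀ x ∈ D \ {a}, 0 < f (B x) := fun x hx => h2 x hx.1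
  by_cases c5 : 0 < B a b - p - q
  · have c6 : B a ∈ span ℝ≥0 (B '' (D \ {a})) := by
      have := smul_mem _ (Real.toNNReal (B a b - p - q)⁻¹) (add_mem hu hv)
      rwa [NNReal.smul_def, ← c4, smul_smul, Real.coe_toNNReal _ (inv_pos.2 c5).le,
        inv_mul_cancel₀ c5.ne', one_smul] at this
    refine (hm ⟨fun x hx => h1 hx.1, hp, fun y a1 a2 => ?_⟩ Set.diff_subset ha).2 rfl
    exact span_le.2 (hD ▸ Set.insert_subset c6 subset_span) (h3 y a1 a2)
  · have c6 := congrArg f c4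
    rw [map_smul, map_add, smul_eq_mul] at c6
    have c7 := (cone (fun x hx => (hp x hx).le) hv).2 hp (by
      nlinarith [(cone (fun x hx => (hp x hx).le) hu).1, h2 a ha])
    rw [c7, add_zero] at c3
    have c8 := congrFun c3 a
    have c9 := congrFun c3 b
    simp only [Pi.smul_apply, smul_eq_mul, h.self, h.symm a b] at c9 c8
    rw [c8] at c9
    exact b2 (h.sep _ _ (by rw [c8]; nlinarith [q.2]))

omit h [Finite Φ] in
/-- A functional composed with a permutation. -/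
def tw (f : (Φ → ℝ) →ₗ[ℝ] ℝ) (g : Perm Φ) : (Φ → ℝ) →ₗ[ℝ] ℝ := f ∘ₗ LinearMap.funLeft ℝ ℝ g.symm

theorem tw_B (f : (Φ → ℝ) →ₗ[ℝ] ℝ) {g : Perm Φ} (hg : g ∈ h.W Ψ) (x : Φ) :
    tw f g (B x) = f (B (g x)) := congrArg f (funext fun u => by
  rw [LinearMap.funLeft_apply, ← h.B_W hg, apply_symm_apply])

/-- Simple transitivity on positive systems, uniqueness. -/
theorem eq_one (hΨ : Cl s Ψ) {f : (Φ → ℝ) →ₗ[ℝ] ℝ} (hf : ∀ x ∈ Ψ, f (B x) ≠ 0) {g : Perm Φ}
    (hg : g ∈ h.W Ψ) (hp : ∀ x ∈ Ψ, 0 < f (B x) → 0 < f (B (g x))) : g = 1 := by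
  obtain ⟨D, h1, h2, h3, h4⟩ := h.exists_base hΨ hf
  have k1 : ∀ b ∈ Ψ, 0 < f (B b) → h.pm b ∈ h.W D := fun b => by
    induction b using (Finite.wellFounded_of_trans_of_irrefl
      (InvImage (· < ·) fun x => f (B x))).induction with
    | _ b ih =>
    intro hb b1
    by_cases b2 : b ∈ D
    · exact h.pm_mem b2
    obtain ⟨a, ha, b3⟩ : ∃ a ∈ D, 0 < B a b := by
      by_contra! hc
      have := (cone (k := -LinearMap.proj b) (by simpa using hc) (h3 b hb b1)).1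
      simp [h.self] at this
      linarith
    have := ih (s a b) (by
      change f (B _) < _
      rw [h.B_s, map_sub, map_smul, smul_eq_mul]
      linarith [mul_pos b3 (h2 a ha)]) (hΨ a (h1 ha) b hb) (h4 a ha b hb b1 fun e => b2 (e ▸ ha))
    have e := h.W_conj (h.pm_mem ha) (s a b)
    rw [pm_apply, h.ss, ← mul_inv_eq_iff_eq_mul] at e
    exact e ▸ mul_mem (mul_mem (h.pm_mem ha) this) (inv_mem (h.pm_mem ha))
  have k2 : h.W Ψ ≤ h.W D := (Subgroup.closure_le _).2 (by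
    rintro _ ⟨b, hb, rfl⟩
    by_cases b1 : 0 < f (B b)
    · exact k1 b hb b1
    · exact h.pm_neg b ▸ k1 _ (hΨ b hb b hb) (h.pos_neg (hf b hb) b1))
  have km : ∀ l : List Φ, (∀ x ∈ l, x ∈ D) → (l.map h.pm).prod ∈ h.W Ψ := fun l hl =>
    Subgroup.list_prod_mem _ (by
      simp only [List.mem_map, forall_exists_index, and_imp]
      rintro _ y hy rfl; exact h.pm_mem (h1 (hl y hy)))
  have k3 : ∀ a ∈ D, ∀ l : List Φ, (∀ x ∈ l, x ∈ D) → ¬ 0 < f (B ((l.map h.pm).prod a)) →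
      ∃ l' : List Φ, l'.length < l.length ∧ (∀ x ∈ l', x ∈ D) ∧
        (l'.map h.pm).prod = (l.map h.pm).prod * h.pm a := fun a ha l => by
    induction l with
    | nil => exact fun _ hn => absurd (h2 a ha) hn
    | cons x m ih =>
      intro hl hn
      rw [List.forall_mem_cons] at hl
      by_cases b1 : 0 < f (B ((m.map h.pm).prod a))
      · have e : (m.map h.pm).prod a = x := by_contra fun e =>
          hn (h4 x hl.1 _ (h.W_mem hΨ (km m hl.2) (h1 ha)) b1 e)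
        refine ⟨m, by simp, hl.2, ?_⟩
        rw [List.map_cons, List.prod_cons, mul_assoc, h.W_conj (km m hl.2), e, ← mul_assoc,
          h.pm_mul_self, one_mul]
      · obtain ⟨l', b2, b3, b4⟩ := ih hl.2 b1
        exact ⟨x :: l', by simpa, by simpa [hl.1] using b3, by simp [b4, mul_assoc]⟩
  obtain ⟨l, hl, e⟩ := h.exists_list (k2 hg)
  induction hn : l.length using Nat.strong_induction_on generalizing l with
  | _ n ih =>
  rcases l.eq_nil_or_concat' with rfl | ⟨m, a, rfl⟩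
  · exact e.symm
  have ha := hl a (by simp)
  have hm : ∀ x ∈ m, x ∈ D := fun x hx => hl x (by simp [hx])
  rw [List.map_append, List.prod_append, List.map_singleton, List.prod_singleton] at e
  obtain ⟨l', b2, b3, b4⟩ := k3 a ha m hm fun hn => by
    have := hp a (h1 ha) (h2 a ha)
    rw [← e, Perm.mul_apply, pm_apply, h.W_s (km m hm), h.B_neg, map_neg] at this
    linarith
  exact ih _ (by simp at hn; omega) l' b3 (b4.trans e) rfl

/-- Transitivity on positive systems. -/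
theorem exists_pos (hΨ : Cl s Ψ) {f f' : (Φ → ℝ) →ₗ[ℝ] ℝ} (hf : ∀ x ∈ Ψ, f (B x) ≠ 0)
    (hf' : ∀ x ∈ Ψ, f' (B x) ≠ 0) :
    ∃ g ∈ h.W Ψ, ∀ x ∈ Ψ, 0 < f (B x) → 0 < f' (B (g x)) := by
  induction hn : {x ∈ Ψ | 0 < f (B x) ∧ ¬ 0 < f' (B x)}.ncard using Nat.strong_induction_on
    generalizing f with
  | _ n ih =>
  obtain ⟨D, h1, h2, h3, h4⟩ := h.exists_base hΨ hf
  by_cases hc : ∀ a ∈ D, 0 ≤ f' (B a)
  · exact ⟨1, one_mem _, fun x hx hp => (cone hc (h3 x hx hp)).1.lt_of_ne' (hf' x hx)⟩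
  push Not at hc
  obtain ⟨a, ha, hc⟩ := hc
  have hw := h.pm_mem (h1 ha)
  have hlt : {x ∈ Ψ | 0 < tw f (h.pm a) (B x) ∧ ¬ 0 < f' (B x)}.ncard < n := by
    refine hn ▸ Set.ncard_lt_ncard ⟨fun x hx => ⟨hx.1, by_contra fun b1 => ?_, hx.2.2⟩,
      fun hx => ?_⟩
    · have b2 := hx.2.1
      rw [h.tw_B f hw] at b2
      have b3 := h4 a ha _ (hΨ x hx.1 x hx.1) (h.pos_neg (hf x hx.1) b1) fun e => hx.2.2 (by
        rw [← e, h.B_neg, map_neg] at hc; linarith)
      rw [← h.pm_apply a, h.W_s hw, h.B_neg, map_neg] at b3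
      linarith
    · have := (hx ⟨h1 ha, h2 a ha, hc.not_gt⟩).2.1
      rw [h.tw_B f hw, pm_apply, h.B_neg, map_neg] at this
      linarith [h2 a ha]
  obtain ⟨g, hg, e⟩ := ih _ hlt
    (fun x hx => by rw [h.tw_B f hw]; exact hf _ (hΨ a (h1 ha) x hx)) rfl
  refine ⟨g * h.pm a, mul_mem hg hw, fun x hx b1 => e _ (hΨ a (h1 ha) x hx) ?_⟩
  rwa [h.tw_B f hw, pm_apply, pm_apply, h.ss]

/-- If `-1` lies in the reflection group, it is a product of orthogonal reflections. -/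
theorem exists_frame (hΨ : Cl s Ψ) {w : Perm Φ} (hw : w ∈ h.W Ψ) (hn : ∀ x ∈ Ψ, w x = s x x) :
    ∃ l : List Φ, (∀ x ∈ l, x ∈ Ψ) ∧ l.Pairwise (B · · = 0) ∧ (l.map h.pm).prod = w := by
  obtain ⟨f, hf⟩ := Module.exists_dual_forall_apply_ne_zero (K := ℝ) B fun x e => by
    simpa [h.self] using congrFun e x
  induction hc : Ψ.ncard using Nat.strong_induction_on generalizing Ψ w with
  | _ n ih =>
  rcases Ψ.eq_empty_or_nonempty with rfl | ⟨a, ha⟩
  · exact ⟨[], by simp, by simp, by simpa [W, eq_comm] using hw⟩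
  have c1 : Cl s {x ∈ Ψ | B a x = 0} := fun x hx y hy =>
    ⟨hΨ x hx.1 y hy.1, by rw [h.toRS.refl', hy.2, h.symm x a, hx.2]; simp⟩
  have c2 : h.W {x ∈ Ψ | B a x = 0} ≤ h.W Ψ :=
    Subgroup.closure_mono (Set.image_mono fun x hx => hx.1)
  obtain ⟨t, ht, c3⟩ := h.exists_pos c1 (f := f) (f' := -f) (fun x _ => hf x)
    fun x _ => by simpa using hf x
  have c4 : t a = a := h.ind (p := fun g => g a = a) rfl (fun x hx g e => by
    rw [Perm.mul_apply, e, pm_apply, h.s_of_perp (h.symm a x ▸ hx.2)]) ht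
  have c5 : (w * h.pm a) a = a := h.ext (by
    rw [Perm.mul_apply, pm_apply, hn _ (hΨ a ha a ha), h.B_neg, h.B_neg, neg_neg])
  have c6 : ∀ x ∈ {x ∈ Ψ | B a x = 0}, (w * h.pm a) x = s x x := fun x hx => by
    rw [Perm.mul_apply, pm_apply, h.s_of_perp hx.2, hn x hx.1]
  obtain ⟨ε, ε0, hε⟩ : ∃ ε : ℝ, 0 < ε ∧ ∀ x, B a x ≠ 0 → ε * |f (B x)| < |B a x| := by
    have : ∀ᶠ ε in nhdsWithin (0 : ℝ) (Set.Ioi 0), ∀ x, B a x ≠ 0 → ε * |f (B x)| < |B a x| :=
      Filter.eventually_all.2 fun x => Filter.eventually_imp_distrib_left.2 fun hx =>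
        nhdsWithin_le_nhds ((continuous_id.mul continuous_const).continuousAt.eventually_lt
          continuousAt_const (by simpa))
    exact (this.and self_mem_nhdsWithin).exists.imp fun _ => And.symm
  have c7 : ∀ x, B a x ≠ 0 → (0 < B x a + ε * f (B x) ↔ 0 < B a x) ∧ B x a + ε * f (B x) ≠ 0 :=
    fun x hx => by
      have := hε x hx
      rw [← abs_of_pos ε0, ← abs_mul, abs_lt] at this
      rw [h.symm x]
      rcases hx.lt_or_gt with e | e
      · rw [abs_of_neg e] at this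
        exact ⟨⟨fun _ => by linarith, fun _ => by linarith⟩, by linarith⟩
      · rw [abs_of_pos e] at this
        exact ⟨⟨fun _ => e, fun _ => by linarith⟩, by linarith⟩
  have hg := mul_mem (mul_mem hw (h.pm_mem ha)) (c2 ht)
  have c8 := h.eq_one hΨ (f := LinearMap.proj a + ε • f) (fun x hx => by
    by_cases e : B a x = 0
    · simp [h.symm x, e, ε0.ne', hf]
    · exact (c7 x e).2) hg fun x hx hp => by
      change 0 < B _ a + ε * _ at hp ⊢
      have e1 : B a ((w * h.pm a * t) x) = B a x := by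
        rw [← h.B_W hg a x, Perm.mul_apply _ _ a, c4, c5]
      by_cases e : B a x = 0
      · rw [h.symm x, e, zero_add, mul_pos_iff_of_pos_left ε0] at hp
        rw [h.symm _ a, e1, e, zero_add, mul_pos_iff_of_pos_left ε0, Perm.mul_apply,
          c6 _ (h.W_mem c1 ht ⟨hx, e⟩), h.B_neg, map_neg]
        exact c3 x ⟨hx, e⟩ hp
      · rwa [(c7 _ (e1 ▸ e)).1, e1, ← (c7 x e).1]
  obtain ⟨l, b1, b2, b3⟩ := ih _ (hc ▸ Set.ncard_lt_ncard ⟨fun x hx => hx.1, fun e => by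
    simpa [h.self] using (e ha).2⟩) c1 (eq_inv_of_mul_eq_one_left c8 ▸ inv_mem ht) c6 rfl
  refine ⟨l ++ [a], by simpa [ha, or_imp, forall_and] using fun x hx => (b1 x hx).1, ?_, ?_⟩
  · simpa [List.pairwise_append, b2] using fun x hx => h.symm a x ▸ (b1 x hx).2
  · simp [b3, mul_assoc, h.pm_mul_self]

end Re

end RS

end Cfsg.Lib.Sp4O
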