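import Mathlib

/-!
# Finite tables: triples of involutions in `S₄` and `A₅`, frames of length five
-/

set_option autoImplicit false

namespace Cfsg.Lib.Sp4O

open Equiv

/-- The ring `ℤ[φ]`. -/
abbrev Zg := QuadraticAlgebra ℤ 1 1

/-- The ring `ℤ[φ, √2]`. -/
abbrev Rg := QuadraticAlgebra Zg 2 0

/-- Evaluation of `ℤ[φ, √2]`. -/
def ev {A : Type*} [CommRing A] (f r : A) (hf : f * f = 1 + f) (hr : r * r = 2) : Rg →+* A where
  toFun z := z.re.re + z.re.im * f + (z.im.re + z.im.im * f) * r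
  map_one' := by simp [QuadraticAlgebra.re_one, QuadraticAlgebra.im_one]
  map_zero' := by simp
  map_add' x y := by simp; ring
  map_mul' x y := by
    simp [QuadraticAlgebra.re_ofNat, QuadraticAlgebra.im_ofNat]
    linear_combination (-(x.re.im * y.re.im : A) - 2 * x.im.im * y.im.im -
      (x.re.im * y.im.im + x.im.im * y.re.im) * r) * hf -
      ((x.im.re : A) + x.im.im * f) * (y.im.re + y.im.im * f) * hr

/-- The values `2 cos (π k / m)`. -/
def sq6 : Fin 6 → Rg := ![⟨⟨2, 0⟩, 0⟩, 0, ⟨⟨1, 0⟩, 0⟩, ⟨0, ⟨1, 0⟩⟩, ⟨⟨0, 1⟩, 0⟩, ⟨⟨-1, 1⟩, 0⟩]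

theorem ev_sq6 {A : Type*} [CommRing A] (f r : A) (hf : f * f = 1 + f) (hr : r * r = 2)
    (i : Fin 6) : ev f r hf hr (sq6 i) = ![2, 0, 1, r, f, f - 1] i := by
  fin_cases i <;> simp [ev, sq6]
  ring

theorem sq6_dvd (i : Fin 6) : i = 1 ∨ ∃ y, sq6 i * y = 2 := by
  have : ∀ i : Fin 6, i = 1 ∨ ∃ y ∈ [1, 2, sq6 3, 2 * sq6 4, 2 * sq6 5], sq6 i * y = 2 := by
    decide +kernel
  exact (this i).imp_right fun ⟨y, _, h⟩ => ⟨y, h⟩

theorem sq6_zero : sq6 0 = 2 := rfl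
theorem sq6_one : sq6 1 = 0 := rfl
theorem sq6_im : ∀ i, ((sq6 i).im = 0 → i ≠ 3) ∧ (sq6 i ^ 2).im = 0 := by decide +kernel

/-- `d = ± c ± m`. -/
def Rel (d c m : Rg) : Prop := d = c + m ∨ d = c - m ∨ d = m - c ∨ d = -c - m

instance decRel (d c m : Rg) : Decidable (Rel d c m) := by unfold Rel; infer_instance

/-- The class of a rotation. -/
def cp {G : Type*} [Group G] [DecidableEq G] (b : G → Bool) (g : G) : Fin 6 :=
  if g = 1 then 0 else if g * g = 1 then 1 else if g * g * g = 1 then 2 else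
    if g * g * g * g = 1 then 3 else if b g then 5 else 4

/-- The reflection formula holds up to signs for the lifted inner products. -/
def Tb {G : Type*} [Group G] [DecidableEq G] (b : G → Bool) : Prop :=
  ∀ X : G, X * X = 1 → ∀ W : G, W * W = 1 → ∀ Y : G, Y * Y = 1 →
    Rel (sq6 (cp b (X * W * X * Y))) (sq6 (cp b (W * Y)))
      (sq6 (cp b (X * W)) * sq6 (cp b (X * Y)))

/-- Table lookup. -/
def dig (w N i j : ℕ) : ℕ := (N >>> (w * (16 * i + j))) % 2 ^ w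

/-- The quadruples of classes that occur. -/
def ok6 (a b c d : ℕ) : ℕ :=
  (85597436674711549546141684781046582355082993170315303698796032766902679515985149925855126954695178279837467412734410902378718104771722429964891029164019451372100730542983818592729395608500816504594026553976135713137722603372871799263220431782351545067554391478046669361712305597016903458480590853769118568488364111856650574128506151608136276172850713752750442169276509577513677551050948609 >>> (216 * a + 36 * b + 6 * c + d)) % 2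

section
variable {G H : Type*} [Group G] [DecidableEq G] [Group H] [DecidableEq H] {b b' : G → Bool}

theorem Tb.not (h : Tb b) : Tb fun g => !b g := fun X hX W hW Y hY => by
  have h1 : ∀ g, cp (fun g => !b g) g = swap 4 5 (cp b g) := fun g => by
    unfold cp; split_ifs <;> first | rfl | simp_all
  have h2 : ∀ a b c d : Fin 6, Rel (sq6 d) (sq6 c) (sq6 a * sq6 b) → Rel (sq6 (swap 4 5 d))
    (sq6 (swap 4 5 c)) (sq6 (swap 4 5 a) * sq6 (swap 4 5 b)) := by decide +kernel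
  simpa only [h1] using h2 _ _ _ _ (h X hX W hW Y hY)

theorem Tb.congr (h : Tb b) (e : ∀ g : G, g * g * g ≠ 1 → g * g * g * g ≠ 1 → b' g = b g) :
    Tb b' := by
  have : cp b' = cp b := funext fun g => by
    unfold cp; split_ifs <;> simp_all
  unfold Tb at h ⊢
  rwa [this]

theorem cp_map {φ : H →* G} (hφ : Function.Injective φ) (g : H) :
    cp (fun g => b (φ g)) g = cp b (φ g) := by
  simp only [cp, ← map_mul, map_eq_one_iff φ hφ]

theorem Tb.comap (h : Tb b) {φ : H →* G} (hφ : Function.Injective φ) : Tb fun g => b (φ g) :=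
  fun X hX W hW Y hY => by
  simpa only [cp_map hφ, map_mul] using h (φ X) (by rw [← map_mul, hX, map_one]) (φ W)
    (by rw [← map_mul, hW, map_one]) (φ Y) (by rw [← map_mul, hY, map_one])

theorem Tb.of_table {φ : H →* G} (hφ : Function.Injective φ) (L : List G) (N M : ℕ)
    (h0 : ∀ X : H, X * X = 1 → ∃ i < L.length, φ X = L.getD i 1)
    (h1 : ∀ i < L.length, ∀ j < L.length, dig 4 N i j < L.length ∧ L.getD i 1 * L.getD j 1 *
      L.getD i 1 = L.getD (dig 4 N i j) 1 ∧ (cp b (L.getD i 1 * L.getD j 1) : ℕ) = dig 3 M i j)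
    (h2 : ∀ i < L.length, ∀ j < L.length, ∀ k < L.length, ok6 (dig 3 M i j) (dig 3 M i k)
      (dig 3 M j k) (dig 3 M (dig 4 N i j) k) = 1) : Tb fun g => b (φ g) := fun X hX W hW Y hY => by
  have h3 : ∀ a b c d : Fin 6, ok6 a b c d = 1 → Rel (sq6 d) (sq6 c) (sq6 a * sq6 b) := by
    decide +kernel
  obtain ⟨i, hi, ei⟩ := h0 X hX
  obtain ⟨j, hj, ej⟩ := h0 W hW
  obtain ⟨k, hk, ek⟩ := h0 Y hY
  simp only [cp_map hφ, map_mul, ei, ej, ek, (h1 i hi j hj).2.1]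
  refine h3 _ _ _ _ ?_
  rw [(h1 i hi j hj).2.2, (h1 i hi k hk).2.2, (h1 j hj k hk).2.2, (h1 _ (h1 i hi j hj).1 k hk).2.2]
  exact h2 i hi j hj k hk

end

/-- The class of a five-cycle. -/
def par (g : Perm (Fin 5)) : Bool :=
  let a := g 0; let b := g a; let c := g b; let d := g c
  (a < b) ^^ (a < c) ^^ (a < d) ^^ (b < c) ^^ (b < d) ^^ (c < d)

theorem tb4 : Tb fun _ : Perm (Fin 4) => false :=
  Tb.of_table (G := Perm (Fin 4)) (H := Perm (Fin 4)) (b := fun _ => false) (φ := .id _)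
    Function.injective_id
    [1, swap 0 1, swap 0 2, swap 0 3, swap 1 2, swap 1 3, swap 2 3, swap 0 1 * swap 2 3,
     swap 0 2 * swap 1 3, swap 0 3 * swap 1 2]
    161935431980730229832860439791648068215874011516010000529032953000245274157639293626205040175798156144776966126617583885640086060242963611602813879506594570852183627154212373337195426320
    219195387900227413133481000559836876405171966914279516922003501653612026776442356883057823583853748964906342177032271038290713590899184200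
    (by decide +kernel) (by decide +kernel) (by decide +kernel)

theorem tb5 : Tb fun g : alternatingGroup (Fin 5) => par ((alternatingGroup (Fin 5)).subtype g) :=
  Tb.of_table (G := Perm (Fin 5)) (H := alternatingGroup (Fin 5)) (b := par)
    (φ := (alternatingGroup (Fin 5)).subtype) (Subgroup.subtype_injective _)
    [1, swap 1 2 * swap 3 4, swap 1 3 * swap 2 4, swap 1 4 * swap 2 3, swap 0 2 * swap 3 4,
     swap 0 3 * swap 2 4, swap 0 4 * swap 2 3, swap 0 1 * swap 3 4, swap 0 3 * swap 1 4,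
     swap 0 4 * swap 1 3, swap 0 1 * swap 2 4, swap 0 2 * swap 1 4, swap 0 4 * swap 1 2,
     swap 0 1 * swap 2 3, swap 0 2 * swap 1 3, swap 0 3 * swap 1 2]
    178938543622800752598732740910974404583584396673357098304762543070988382951260873944629863076829080108056396944390256327540123111194992803429506649564557330656381459375424345540022460595508891521225043228026833288209437866022133813157768559909188742190422619929607452837686793322920151419472145656111730799120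
    28270762667866277059586484915090983252951028337213451631940357784916566709220811312248982667499339564636595963447538765337512901870148663045945663914882496466512096846108486427917692117666844135424326029389088516853188205033591368
    (by decide +kernel) (by decide +kernel) (by decide +kernel)

theorem par_conj : ∃ c : alternatingGroup (Fin 5), c ≠ 1 ∧ c ^ 5 = 1 ∧
    ∀ g : alternatingGroup (Fin 5), g * g = 1 ∨ g * g * g = 1 ∨
      ∃ h : alternatingGroup (Fin 5), g = h * (if par g then c * c else c) * h⁻¹ :=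
  ⟨⟨finRotate 5, Perm.mem_alternatingGroup.2 (by decide)⟩, by decide +kernel⟩

/-- Reduction modulo two. -/
def m2 : Rg →+* QuadraticAlgebra (ZMod 2) 1 1 := ev ⟨0, 1⟩ 0 (by decide) (by decide)

/-- Five-tuples of codes. -/
abbrev T5 := ℕ × ℕ × ℕ × ℕ × ℕ

/-- The coordinate vectors modulo two of roots outside a frame. -/
def L65 : List T5 :=
    [(0, 1, 1, 1, 1), (1, 0, 1, 1, 1), (1, 1, 0, 1, 1), (1, 1, 1, 0, 1), (1, 1, 1, 1, 0),
     (1, 2, 3, 0, 0), (1, 3, 2, 0, 0), (2, 1, 3, 0, 0), (2, 3, 1, 0, 0), (3, 1, 2, 0, 0),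
     (3, 2, 1, 0, 0), (1, 2, 0, 3, 0), (1, 3, 0, 2, 0), (2, 1, 0, 3, 0), (2, 3, 0, 1, 0),
     (3, 1, 0, 2, 0), (3, 2, 0, 1, 0), (1, 2, 0, 0, 3), (1, 3, 0, 0, 2), (2, 1, 0, 0, 3),
     (2, 3, 0, 0, 1), (3, 1, 0, 0, 2), (3, 2, 0, 0, 1), (1, 0, 2, 3, 0), (1, 0, 3, 2, 0),
     (2, 0, 1, 3, 0), (2, 0, 3, 1, 0), (3, 0, 1, 2, 0), (3, 0, 2, 1, 0), (1, 0, 2, 0, 3),
     (1, 0, 3, 0, 2), (2, 0, 1, 0, 3), (2, 0, 3, 0, 1), (3, 0, 1, 0, 2), (3, 0, 2, 0, 1),
     (1, 0, 0, 2, 3), (1, 0, 0, 3, 2), (2, 0, 0, 1, 3), (2, 0, 0, 3, 1), (3, 0, 0, 1, 2),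
     (3, 0, 0, 2, 1), (0, 1, 2, 3, 0), (0, 1, 3, 2, 0), (0, 2, 1, 3, 0), (0, 2, 3, 1, 0),
     (0, 3, 1, 2, 0), (0, 3, 2, 1, 0), (0, 1, 2, 0, 3), (0, 1, 3, 0, 2), (0, 2, 1, 0, 3),
     (0, 2, 3, 0, 1), (0, 3, 1, 0, 2), (0, 3, 2, 0, 1), (0, 1, 0, 2, 3), (0, 1, 0, 3, 2),
     (0, 2, 0, 1, 3), (0, 2, 0, 3, 1), (0, 3, 0, 1, 2), (0, 3, 0, 2, 1), (0, 0, 1, 2, 3),
     (0, 0, 1, 3, 2), (0, 0, 2, 1, 3), (0, 0, 2, 3, 1), (0, 0, 3, 1, 2), (0, 0, 3, 2, 1)]

/-- Multiplication in the field with four elements. -/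
def mu4 (a b : ℕ) : ℕ := (2625168384 >>> (2 * (4 * a + b))) % 4

/-- Inner product modulo two. -/
def ort (a b : T5) : ℕ := mu4 a.1 b.1 ^^^ mu4 a.2.1 b.2.1 ^^^ mu4 a.2.2.1 b.2.2.1 ^^^
  mu4 a.2.2.2.1 b.2.2.2.1 ^^^ mu4 a.2.2.2.2 b.2.2.2.2

/-- The code of a class. -/
def e6 (i : Fin 6) : ℕ := (3600 >>> (2 * i.1)) % 4

/-- Decoding. -/
def dec4 (n : ℕ) : QuadraticAlgebra (ZMod 2) 1 1 := ⟨n, (n / 2 : ℕ)⟩

theorem mem_L65 {v : Fin 5 → Fin 6} (h : ∑ i, sq6 (v i) ^ 2 = 4) (h3 : ∀ i, v i ≠ 3) :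
    (∀ i, e6 (v i) = 0) ∨ (e6 (v 0), e6 (v 1), e6 (v 2), e6 (v 3), e6 (v 4)) ∈ L65 := by
  obtain ⟨t, ht⟩ : ∃ t : Fin 6 → ℕ, t = fun i => (70724 >>> (3 * i.1)) % 8 := ⟨_, rfl⟩
  obtain ⟨u, hu⟩ : ∃ t : Fin 6 → ℕ, t = fun i => (597 >>> (2 * i.1)) % 4 := ⟨_, rfl⟩
  have a1 : ∀ i, (sq6 i ^ 2).re = ⟨t i, u i - 1⟩ := by subst ht hu; decide +kernel
  have a2 : ∀ a b c d f : Fin 6, t a + t b + t c + t d + t f = 4 →
      u a + u b + u c + u d + u f = 5 → a ≠ 3 ∧ b ≠ 3 ∧ c ≠ 3 ∧ d ≠ 3 ∧ f ≠ 3 →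
      e6 a + e6 b + e6 c + e6 d + e6 f = 0 ∨ (e6 a, e6 b, e6 c, e6 d, e6 f) ∈ L65 := by
    subst ht hu; decide +kernel
  have b := congrArg QuadraticAlgebra.re h
  simp only [Fin.sum_univ_five, QuadraticAlgebra.re_add, a1, QuadraticAlgebra.ext_iff,
    QuadraticAlgebra.im_add, QuadraticAlgebra.re_ofNat, QuadraticAlgebra.im_ofNat] at b
  refine (a2 _ _ _ _ _ (by omega) (by omega) ⟨h3 0, h3 1, h3 2, h3 3, h3 4⟩).imp_left
    fun d i => ?_
  fin_cases i <;> simp <;> omega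

theorem ort_eq {v w : Fin 5 → Fin 6} (h : ∑ i, m2 (sq6 (v i)) * m2 (sq6 (w i)) = 0) :
    ort (e6 (v 0), e6 (v 1), e6 (v 2), e6 (v 3), e6 (v 4))
      (e6 (w 0), e6 (w 1), e6 (w 2), e6 (w 3), e6 (w 4)) = 0 := by
  have a3 : ∀ a b : Fin 6, m2 (sq6 a) * m2 (sq6 b) = dec4 (mu4 (e6 a) (e6 b)) ∧
    mu4 (e6 a) (e6 b) < 4 := by decide +kernel
  have a4 : ∀ a < 4, ∀ b < 4, dec4 a + dec4 b = dec4 (a ^^^ b) ∧ a ^^^ b < 4 ∧
    (dec4 a = 0 → a = 0) := by decide +kernel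
  have b := fun i => (a3 (v i) (w i)).2
  have b1 := a4 _ (b 0) _ (b 1)
  have b2 := a4 _ b1.2.1 _ (b 2)
  have b3 := a4 _ b2.2.1 _ (b 3)
  have b4 := a4 _ b3.2.1 _ (b 4)
  simp only [Fin.sum_univ_five, (a3 _ _).1, b1.1, b2.1, b3.1, b4.1] at h
  exact (a4 _ b4.2.1 0 (by simp)).2.2 h

theorem chk_L65 : (L65.all fun a => (L65.filter fun b => (ort a b).beq 0).all fun b =>
    (L65.filter fun b => (ort a b).beq 0).all fun c =>
      (((a.1.add (b.1.add c.1)).mul (a.2.1.add (b.2.1.add c.2.1))).mul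
        (((a.2.2.1.add (b.2.2.1.add c.2.2.1)).mul (a.2.2.2.1.add (b.2.2.2.1.add c.2.2.2.1))).mul
        (a.2.2.2.2.add (b.2.2.2.2.add c.2.2.2.2)))).beq 0 || !(ort b c).beq 0) = true := by
  decide +kernel

theorem exists_free (S : Set (Fin 5 → Fin 6)) (h : ∀ v ∈ S, ∑ i, sq6 (v i) ^ 2 = 4)
    (h3 : ∀ v ∈ S, ∀ i, v i ≠ 3)
    (ho : ∀ v ∈ S, ∀ w ∈ S, ∑ i, m2 (sq6 (v i)) * m2 (sq6 (w i)) = 0) :
    ∃ i, ∀ v ∈ S, v i = 0 ∨ v i = 1 := by
  have a6 : ∀ i, i ≠ 3 → (e6 i = 0 → i = 0 ∨ i = 1) := by decide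
  have a7 : ∀ a ∈ L65, ∃ i j : Fin 5, ∀ k, ![a.1, a.2.1, a.2.2.1, a.2.2.2.1, a.2.2.2.2] k ≠ 0 ∨
    k = i ∨ k = j := by decide +kernel
  by_contra! hc
  choose v hv hv' using hc
  have a9 : ∀ i, e6 (v i i) ≠ 0 := fun i h => by simpa [hv'] using a6 _ (h3 _ (hv i) i) h
  have a10 := fun i => (mem_L65 (h _ (hv i)) (h3 _ (hv i))).resolve_left fun d => a9 i (d i)
  obtain ⟨i, j, h4⟩ := a7 _ (a10 0)
  have a11 : ∀ k, ¬ ((e6 (v 0 k) = 0 ∧ e6 (v i k) = 0) ∧ e6 (v j k) = 0) := fun k hk => by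
    rcases h4 k with d | rfl | rfl
    · have : e6 (v 0 k) = 0 := by omega
      exact d (by fin_cases k <;> exact this)
    · exact a9 k (by omega)
    · exact a9 k (by omega)
  have a8 := chk_L65
  simp only [List.all_eq_true, Bool.or_eq_true, List.mem_filter, Nat.beq_eq, Nat.add_eq,
    Nat.mul_eq, mul_eq_zero, ← add_assoc] at a8
  have a5 := fun i j => ort_eq (ho _ (hv i) _ (hv j))
  simpa [a11, a5] using a8 _ (a10 0) _ ⟨a10 i, a5 0 i⟩ _ ⟨a10 j, a5 0 j⟩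

end Cfsg.Lib.Sp4O
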