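import Cfsg.Agent.Lib.Sp4O.Loc2
import Cfsg.Agent.Lib.Sp4O.Tab
import Cfsg.Agent.Lib.Sp4O.Cox

/-!
# Lifting a small reflection group to characteristic zero
-/

set_option autoImplicit false

namespace Cfsg.Lib.Sp4O

open QuadraticMap Module Cfsg.Lib.Orth Matrix Cfsg.Lib.PSL2 Cfsg.Lib.OMax
open scoped MatrixGroups Classical

variable {F V : Type*} [Field F] [AddCommGroup V] [Module F V] {Q : QuadraticForm F V}
  {K : Subgroup (O Q)} {L : Type*} [Field L] (ι : F →+* L) {f r : L} (hf : f * f = 1 + f)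
  (hr : r * r = 2)

variable (f) in
/-- The class of a value of `4 cos²`. -/
noncomputable def cT (τ : F) : Fin 6 :=
  if τ = 0 then 1 else if τ = 1 then 2 else if τ = 2 then 3 else if ι τ ≠ f + 1 then 5 else 4

theorem cp_tau (g : PGL(2, F)) :
    cp (fun g => decide (ι (tau g) ≠ f + 1)) g = if g = 1 then 0 else cT ι f (tau g) := by
  by_cases h : g = 1
  · simp [cp, h]
  simp only [cp, cT, h, if_false, mul_self_eq_one_iff_tau h, ← pow_three', ← pow_succ,
    pow_three_eq_one_iff_tau h, pow_four_eq_one_iff_tau h, decide_eq_true_eq]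
  split_ifs <;> simp_all

include hf in
theorem golden {τ : F} (h : τ ^ 2 - 3 * τ + 1 = 0) : ι τ = f + 1 ∨ ι τ = 2 - f := by
  have := congrArg ι h
  simp only [map_add, map_sub, map_mul, map_pow, map_one, map_zero, map_ofNat] at this
  rw [← sub_eq_zero, ← sub_eq_zero (b := 2 - f), ← mul_eq_zero]
  linear_combination this - hf

include hf in
theorem SmG.tb {H : Subgroup PGL(2, F)} (h : SmG H)
    (h4 : ∀ g ∈ H, g ≠ 1 → tau g = 4 → (3 : F) = 0) :
    Tb fun g : H => decide (ι (tau g.1) ≠ f + 1) := by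
  rcases h with ⟨φ, h⟩ | ⟨⟨E⟩⟩
  · refine (tb4.comap h).congr fun g a b => ?_
    have : ∀ x : Equiv.Perm (Fin 4), x * x * x = 1 ∨ x * x * x * x = 1 := by decide +kernel
    simpa only [← map_mul, map_eq_one_iff φ h, a, b, false_or] using this (φ g)
  obtain ⟨c, c1, c5, hc⟩ := par_conj
  have a1 : (E.symm c).1 ≠ 1 := by simpa
  have a2 := (pow_five_eq_one_iff_tau a1).1 (by rw [← Subgroup.coe_pow, ← map_pow, c5]; simp)
  have a3 : f + 1 ≠ 2 - f := fun h => by
    have b1 : (5 : L) = 0 := by linear_combination (2 * f - 1) * h - 4 * hf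
    have b2 : ι (tau (E.symm c).1) = ι 4 := by
      have : ι (tau (E.symm c).1) = f + 1 := by rcases golden ι hf a2 with a | a <;> simp [a, h]
      rw [this, map_ofNat]; linear_combination (-2) * h + f * b1 - b1
    have := congrArg ι (h4 _ (E.symm c).2 a1 (ι.injective b2))
    rw [map_ofNat, map_zero] at this
    exact one_ne_zero (α := L) (by linear_combination 2 * this - b1)
  have a4 : ∀ g : H, g * g * g ≠ 1 → g * g * g * g ≠ 1 → ι (tau g.1) =
      if par (E g) then 3 - ι (tau (E.symm c).1) else ι (tau (E.symm c).1) := fun g a b => by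
    rcases hc (E g) with d | d | ⟨d, e⟩
    · exact (b (by rw [← map_mul, EmbeddingLike.map_eq_one_iff] at d; simp [mul_assoc, d])).elim
    · exact (a (by simpa only [← map_mul, EmbeddingLike.map_eq_one_iff] using d)).elim
    have := congrArg (fun x => tau (E.symm x).1) e
    simp only [MulEquiv.symm_apply_apply, map_mul, map_inv, Subgroup.coe_mul, Subgroup.coe_inv,
      tau_conj] at this
    rw [this]
    split_ifs
    · rw [map_mul, Subgroup.coe_mul, tau_mul_self, ← map_ofNat ι 3, ← map_sub]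
      congr 1; linear_combination a2
    · rfl
  have a5 := tb5.comap (φ := E.toMonoidHom) E.injective
  rcases golden ι hf a2 with a | a
  · refine a5.congr fun g b c => ?_
    rw [a4 g b c, a]
    change _ = par (E g)
    split_ifs with d <;> simp only [d, ne_eq, not_true, decide_false, decide_eq_true_eq]
    exact fun e => a3 (by linear_combination -e)
  · refine a5.not.congr fun g b c => ?_
    rw [a4 g b c, a]
    change _ = !par (E g)
    split_ifs with d
    · simp [d, show 3 - (2 - f) = f + 1 by ring]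
    · simp [d, a3.symm]

theorem Tb.coe {G : Type*} [Group G] {H : Subgroup G} {b : G → Bool} (h : Tb fun g : H => b g.1)
    {X W Y : G} (hX : X ∈ H) (hW : W ∈ H) (hY : Y ∈ H) (h1 : X * X = 1) (h2 : W * W = 1)
    (h3 : Y * Y = 1) : Rel (sq6 (cp b (X * W * X * Y))) (sq6 (cp b (W * Y)))
      (sq6 (cp b (X * W)) * sq6 (cp b (X * Y))) := by
  have b3 : ∀ y : H, cp (fun y : H => b y.1) y = cp b y.1 := cp_map H.subtype_injective
  simpa only [b3, Subgroup.coe_mul] using h ⟨_, hX⟩ (Subtype.ext h1) ⟨_, hW⟩ (Subtype.ext h2)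
    ⟨_, hY⟩ (Subtype.ext h3)

variable (Q f) in
/-- The class of a pair of vectors. -/
noncomputable def cl (x y : V) : Fin 6 :=
  if x = y ∨ x = -y then 0 else cT ι f (polar Q x y ^ 2)

variable (Q) in
/-- The lifted inner product. -/
noncomputable def lB (x y : V) : Rg :=
  if ev f r hf hr (sq6 (cl Q ι f x y)) = ι (polar Q x y) then sq6 (cl Q ι f x y)
    else -sq6 (cl Q ι f x y)

theorem cl_comm (x y : V) : cl Q ι f x y = cl Q ι f y x := by
  simp only [cl, polar_comm Q x y, eq_comm (a := x) (b := y), eq_neg_iff_add_eq_zero, add_comm]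

theorem cl_neg (x y : V) : cl Q ι f (-x) y = cl Q ι f x y := by
  simp [cl, neg_eq_iff_eq_neg, or_comm]

theorem lB_or (x y : V) :
    lB Q ι hf hr x y = sq6 (cl Q ι f x y) ∨ lB Q ι hf hr x y = -sq6 (cl Q ι f x y) := by
  unfold lB; split_ifs <;> simp

theorem lB_sq (x y : V) : lB Q ι hf hr x y ^ 2 = sq6 (cl Q ι f x y) ^ 2 := by
  rcases lB_or (Q := Q) ι hf hr x y with h | h <;> simp [h]

theorem lB_eq_zero {A : Type*} [Field A] (h2 : (2 : A) ≠ 0) (ρ : Rg →+* A) {x y : V}
    (h : ρ (lB Q ι hf hr x y) = 0) : lB Q ι hf hr x y = 0 := by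
  rcases sq6_dvd (cl Q ι f x y) with a | ⟨z, a⟩
  · simp [lB, a, sq6_one]
  · have := congrArg ρ a
    rcases lB_or (Q := Q) ι hf hr x y with b | b <;> simp [b] at h <;>
      simp [h, map_ofNat, h2.symm] at this

theorem cl_eq_zero {x y : V} (h : cl Q ι f x y = 0) : x = y ∨ x = -y := by
  by_contra a
  simp only [cl, a, if_false, cT] at h
  split_ifs at h <;> simp at h

namespace RK
variable {Φ : Set V} (R : RK K Φ) (hB : ¬ Lg K) [Finite F] [FiniteDimensional F V]
  (hn : 3 ≤ finrank F V) (hc : ¬ commutator (O Q) ≤ K)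
include R hB hn hc hf

theorem rel {x w u : V} (hx : x ∈ Φ) (hw : w ∈ Φ) (hu : u ∈ Φ) :
    Rel (sq6 (cl Q ι f ((refl Q x).1 w) u)) (sq6 (cl Q ι f w u))
      (sq6 (cl Q ι f x w) * sq6 (cl Q ι f x u)) := by
  have h0 : ∀ w ∈ Φ, polar Q x w = 0 → cl Q ι f x w = 1 := fun w hw h => by
    rw [cl, if_neg fun a => R.two (mul_self_eq_zero.1 (by
      linear_combination polar Q x w * h - R.sq_of_eq hw a)), h]
    simp [cT]
  have h1 : ∀ w u, cl Q ι f ((refl Q x).1 w) u = cl Q ι f w ((refl Q x).1 u) := fun w u => by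
    simp only [cl, O.polar_left, refl_inv, ← map_neg, ← O.inv_apply_eq]
  have h2 : (refl Q x).1 x = -x := refl_apply_self (by simp [R.Q_eq x hx])
  have h3 : cl Q ι f x x = 0 := by simp [cl]
  by_cases a1 : polar Q x w = 0
  · simp [h0 w hw a1, refl_apply_of_perp a1, sq6_one, Rel]
  by_cases a2 : polar Q x u = 0
  · simp [h0 u hu a2, h1, refl_apply_of_perp a2, sq6_one, Rel]
  by_cases a3 : x = w ∨ x = -w
  · rcases a3 with rfl | rfl
    · simp [h2, h3, cl_neg, sq6_zero, Rel, two_mul]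
    · rw [refl_neg, refl_apply_self (by simp [R.Q_eq w hw])]
      simp [cl_neg, show cl Q ι f w w = 0 by simp [cl], sq6_zero, Rel, two_mul]
  by_cases a4 : x = u ∨ x = -u
  · rw [h1, cl_comm ι w, cl_comm ι w]
    rcases a4 with rfl | rfl
    · simp [h2, h3, cl_neg, sq6_zero, Rel, mul_two]
    · rw [refl_neg, refl_apply_self (by simp [R.Q_eq u hu])]
      simp [cl_neg, show cl Q ι f u u = 0 by simp [cl], sq6_zero, Rel, mul_two]
  obtain ⟨U, ⟨e, g, z, T, h⟩, hxU, hwU, huU⟩ := R.exists_sm hB hn hc hx hw hu a1 a2 a3 a4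
  obtain ⟨X, hX⟩ := R.rep T
  have hm : ∀ a ∈ Φ, a ∈ U → X a ∈ HU K U e g z := fun a ha haU =>
    let ⟨M, h1, _, h2⟩ := (hX a ha haU).1; ⟨M, h1, h2⟩
  have b1 : ∀ a ∈ Φ, a ∈ U → ∀ b ∈ Φ, b ∈ U →
      cp (fun g => decide (ι (tau g) ≠ f + 1)) (X a * X b) = cl Q ι f a b := fun a ha haU b hb hbU => by
    obtain ⟨c1, c2, -⟩ := (hX a ha haU).2.2 b hb hbU
    simp only [cp_tau, cl, c1, c2]
  have b2 := (h.tb ι hf fun g hg => R.tau_ne hB T hg).coe
    (b := fun g => decide (ι (tau g) ≠ f + 1)) (hm x hx hxU) (hm w hw hwU) (hm u hu huU)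
    (hX x hx hxU).2.1 (hX w hw hwU).2.1 (hX u hu huU).2.1
  rw [((hX x hx hxU).2.2 w hw hwU).2.2] at b2
  rwa [b1 _ (R.refl_mem hx hw) (by rw [R.refl_eq hx]; exact sub_mem hwU (U.smul_mem _ hxU)) u hu huU,
    b1 w hw hwU u hu huU, b1 x hx hxU w hw hwU, b1 x hx hxU u hu huU] at b2

theorem ev_lB {x y : V} (hx : x ∈ Φ) (hy : y ∈ Φ) :
    ev f r hf hr (lB Q ι hf hr x y) = ι (polar Q x y) := by
  have : ev f r hf hr (sq6 (cl Q ι f x y)) ^ 2 = ι (polar Q x y) ^ 2 := by
    rw [ev_sq6, ← map_pow, cl]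
    split_ifs with a
    · simp [R.sq_of_eq hy a, map_ofNat]; norm_num
    unfold cT
    split_ifs with b c d e
    · simp [b]
    · simp [c]
    · simp [d, map_ofNat, pow_two, hr]
    · obtain ⟨U, c1, c2, c3, -⟩ := R.exists_sm hB hn hc hx hy hy (by simpa using b) (by simpa using b)
        a a
      rcases R.ang c1 with g | g <;> have := g x hx c2 y hy c3 a
      · tauto
      · rw [(golden ι hf ((this.resolve_left b).resolve_left c)).resolve_left e]
        simp; linear_combination hf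
    · rw [not_not.1 e]; simp; linear_combination hf
  unfold lB
  split_ifs with a
  · exact a
  · rw [map_neg, (sq_eq_sq_iff_eq_or_eq_neg.1 this).resolve_left a, neg_neg]

theorem rs : RS (fun x y : Φ => lB Q ι hf hr x.1 y.1)
    fun x w => ⟨(refl Q x.1).1 w.1, R.refl_mem x.2 w.2⟩ := by
  have h2 : (2 : L) ≠ 0 := by simpa [map_ofNat] using (map_ne_zero ι).2 R.two
  refine ⟨fun x y => by simp only [lB, cl_comm ι x.1, polar_comm Q x.1], fun x => ?_,
    fun x w u => ?_⟩
  · simp [lB, cl, sq6_zero, R.polar_self x.2, map_ofNat]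
  have a1 := R.rel ι hf hB hn hc x.2 w.2 u.2
  have a2 := R.ev_lB ι hf hr hB hn hc (R.refl_mem x.2 w.2) u.2
  conv_rhs at a2 => rw [R.refl_eq x.2, polar_sub_left, polar_smul_left', map_sub, map_mul,
    ← R.ev_lB ι hf hr hB hn hc w.2 u.2, ← R.ev_lB ι hf hr hB hn hc x.2 w.2,
    ← R.ev_lB ι hf hr hB hn hc x.2 u.2]
  have a3 : Rel (lB Q ι hf hr ((refl Q x.1).1 w.1) u.1) (lB Q ι hf hr w.1 u.1)
      (lB Q ι hf hr x.1 w.1 * lB Q ι hf hr x.1 u.1) := by
    unfold Rel at a1 ⊢
    rcases lB_or (Q := Q) ι hf hr ((refl Q x.1).1 w.1) u.1 with a | a <;>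
    rcases lB_or (Q := Q) ι hf hr w.1 u.1 with b | b <;>
    rcases lB_or (Q := Q) ι hf hr x.1 w.1 with c | c <;>
    rcases lB_or (Q := Q) ι hf hr x.1 u.1 with d | d <;> rw [a, b, c, d] <;> grind
  have a4 := fun x y => lB_eq_zero (Q := Q) ι hf hr h2 (ev f r hf hr) (x := x) (y := y)
  rcases a3 with a | a | a | a
  · rw [a, map_add, map_mul] at a2
    have : ev f r hf hr (lB Q ι hf hr x.1 w.1) * ev f r hf hr (lB Q ι hf hr x.1 u.1) = 0 :=
      mul_left_cancel₀ h2 (by linear_combination a2)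
    rcases mul_eq_zero.1 this with b | b <;> simp [a, a4 _ _ b]
  · exact a
  · have := a4 _ _ (mul_left_cancel₀ h2 (by rw [a2]; rw [a] at a2; simp at a2; linear_combination -a2))
    linear_combination 2 * this - a
  · have := a4 w.1 u.1 (mul_left_cancel₀ h2 (by rw [a] at a2; simp at a2; linear_combination -a2))
    linear_combination a - 2 * this

omit hB hn hc hf [Finite F] [FiniteDimensional F V] in
theorem ind {p : O Q → Prop} (h1 : p 1) (h2 : ∀ x ∈ Φ, ∀ g, p g → p (refl Q x * g)) {g : O Q}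
    (hg : g ∈ Subgroup.closure (refl Q '' Φ)) : p g := by
  induction hg using Subgroup.closure_induction_left with
  | one => exact h1
  | mul_left x hx y _ h => obtain ⟨a, ha, rfl⟩ := hx; exact h2 a ha y h
  | inv_mul_cancel x hx y _ h => obtain ⟨a, ha, rfl⟩ := hx; exact refl_inv (Q := Q) a ▸ h2 a ha y h

omit hB hn hc hf in
/-- An irreducible reflection group in dimension five containing `-1` contains `Ω`. -/
theorem commutator_le (h5 : finrank F V = 5) (hK : K ≤ Subgroup.closure (refl Q '' Φ))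
    (hneg : O.neg Q ∈ K) : commutator (O Q) ≤ K := by
  by_contra hc
  have hn : 3 ≤ finrank F V := by omega
  have hB : ¬ Lg K := fun h => hc (R.commutator_le_of_lg hn h)
  let ι := algebraMap F (AlgebraicClosure F)
  have h2 : (2 : AlgebraicClosure F) ≠ 0 := by simpa [map_ofNat] using (map_ne_zero ι).2 R.two
  obtain ⟨r, hr⟩ := IsAlgClosed.exists_eq_mul_self (2 : AlgebraicClosure F)
  obtain ⟨t, ht⟩ := IsAlgClosed.exists_eq_mul_self (5 : AlgebraicClosure F)
  have hf : (1 + t) / 2 * ((1 + t) / 2) = 1 + (1 + t) / 2 := by field_simp; linear_combination -ht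
  have H := R.rs ι hf hr.symm hB hn hc
  have hρ := fun x y : Φ => R.ev_lB ι hf hr.symm hB hn hc x.2 y.2
  have a1 : ∀ v w : Φ, (lB Q ι hf hr.symm v.1 w.1).im = 0 := by
    let k : Subring Rg :=
      { carrier := {z | z.im = 0}
        mul_mem' := fun {a b} (ha : _ = _) (hb : _ = _) => show _ = _ by simp [ha, hb]
        one_mem' := rfl
        add_mem' := fun {a b} (ha : _ = _) (hb : _ = _) => show _ = _ by simp [ha, hb]
        zero_mem' := rfl
        neg_mem' := fun {a} (ha : _ = _) => show _ = _ by simp [ha] }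
    have b1 : ∀ a : Rg, 2 * a ∈ k → a ∈ k := fun a (h : _ = _) => show _ = _ by
      simpa [QuadraticAlgebra.ext_iff, QuadraticAlgebra.re_ofNat, QuadraticAlgebra.im_ofNat] using h
    refine H.descent k (fun x y a h ha => ?_) b1 (fun x y => ?_) fun v T hv hT w => ?_
    · have c1 : ∀ i, ∃ z ∈ [1, 2, 4, 4 * sq6 4 ^ 2, 4 * sq6 5 ^ 2], z.im = 0 ∧
        (i = 1 ∨ sq6 i ^ 2 * z = 2 * 2) := by decide +kernel
      obtain ⟨z, -, c2, c3⟩ := c1 (cl Q ι ((1 + t) / 2) x.1 y.1)
      have := k.mul_mem ha c2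
      rw [lB_sq, mul_assoc, c3.resolve_left fun a => h (by simp [lB, a, sq6_one]), mul_comm,
        mul_assoc] at this
      exact b1 _ (b1 _ this)
    · rw [lB_sq]; exact (sq6_im _).2
    · obtain ⟨g, hg, e⟩ := R.tr _ v.2 _ w.2
      obtain ⟨u, hu, e'⟩ := R.ind (p := fun g => ∃ u ∈ T, u.1 = g.1 v.1) ⟨v, hv, rfl⟩
        (fun x hx g ⟨u, hu, e⟩ => ⟨_, hT ⟨x, hx⟩ u hu, by rw [O.mul_apply, ← e]⟩) (hK hg)
      exact (Subtype.ext (e'.trans e) : u = w) ▸ hu
  have hg : Real.goldenRatio * Real.goldenRatio = 1 + Real.goldenRatio := by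
    linear_combination Real.goldenRatio_sq
  have hs : √2 * √2 = (2 : ℝ) := Real.mul_self_sqrt zero_le_two
  have HR : RS.Re (fun x y : Φ => ev _ _ hg hs (lB Q ι hf hr.symm x.1 y.1)) _ :=
    ⟨H.map _, fun v w h => by
      have b1 : ∀ i, 0 ≤ ev _ _ hg hs (sq6 i) ∧ (ev _ _ hg hs (sq6 i) = 2 → i = 0) := fun i => by
        have c1 := Real.one_lt_goldenRatio
        have c2 := Real.goldenRatio_lt_two
        have c3 : √2 ≠ (2 : ℝ) := fun h => by rw [h] at hs; norm_num at hs
        rw [ev_sq6]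
        fin_cases i <;> simp [c3] <;> constructor <;> first | linarith | (intro; linarith)
      rcases lB_or (Q := Q) ι hf hr.symm v.1 w.1 with a | a
      · have b2 := (b1 _).2 (a ▸ h)
        refine Subtype.ext ((cl_eq_zero ι b2).resolve_right fun b => ?_)
        have := hρ v w
        rw [a, b2, sq6_zero, b, polar_neg_left, R.polar_self w.2, map_neg, map_ofNat,
          map_ofNat] at this
        exact mul_ne_zero h2 h2 (by linear_combination this)
      · rw [a, map_neg] at h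
        linarith [(b1 (cl Q ι ((1 + t) / 2) v.1 w.1)).1]⟩
  have := Module.finite_of_finite F (M := V)
  obtain ⟨π, hπ, e⟩ := R.ind (p := fun g => ∃ π ∈ HR.W Set.univ, ∀ x : Φ, (π x).1 = g.1 x.1)
    ⟨1, one_mem _, fun _ => rfl⟩ (fun x hx g ⟨π, hπ, e⟩ => ⟨_, mul_mem
      (HR.pm_mem (x := ⟨x, hx⟩) trivial) hπ, fun y => by rw [O.mul_apply, ← e]; rfl⟩) (hK hneg)
  have a2 : ∀ x : Φ, π x = ⟨(refl Q x.1).1 x.1, R.refl_mem x.2 x.2⟩ := fun x =>
    Subtype.ext ((e x).trans (refl_apply_self (by simp [R.Q_eq x x.2])).symm)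
  obtain ⟨l, -, l1, l2⟩ := HR.exists_frame (Ψ := Set.univ) (fun _ _ _ _ => trivial) hπ fun x _ => a2 x
  have l3 := l1.imp fun h => lB_eq_zero ι hf hr.symm two_ne_zero _ h
  have a3 : ∀ w : Φ, l.foldr (fun x w => ⟨(refl Q x.1).1 w.1, R.refl_mem x.2 w.2⟩) w = π w := by
    rw [← l2]; clear l1 l2 l3
    induction l with
    | nil => simp
    | cons a l ih => simp [ih, HR.pm_apply]
  have a4 : ∀ w u : Φ, (l.map fun r => lB Q ι hf hr.symm r.1 w.1 * lB Q ι hf hr.symm r.1 u.1).sum =
      2 * lB Q ι hf hr.symm w.1 u.1 := fun w u => by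
    have := H.foldr_eq l3 w u
    rw [a3, a2, H.refl, H.self] at this
    linear_combination this
  have a5 : ∀ w : Φ, w.1 ∈ Submodule.span F (Subtype.val '' {x | x ∈ l}) := fun w => by
    have : (l.foldr (fun x w => ⟨(refl Q x.1).1 w.1, R.refl_mem x.2 w.2⟩) w).1 - w.1 ∈
        Submodule.span F (Subtype.val '' {x | x ∈ l}) := by
      clear l1 l2 l3 a3 a4
      induction l with
      | nil => simp
      | cons a l ih =>
        simp only [List.foldr_cons]
        rw [R.refl_eq a.2, sub_right_comm]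
        exact sub_mem (Submodule.span_mono (Set.image_mono fun x hx => .tail _ hx) ih)
          (Submodule.smul_mem _ _ (Submodule.subset_span ⟨a, .head _, rfl⟩))
    rw [a3, e, O.neg_apply, ← neg_add', neg_mem_iff, ← two_smul F] at this
    exact (Submodule.smul_mem_iff _ R.two).1 this
  obtain ⟨n, v, rfl⟩ : ∃ n, ∃ v : Fin n → Φ, l = List.ofFn v := ⟨_, l.get, (List.ofFn_get l).symm⟩
  have a6 : ∀ x y : Φ, lB Q ι hf hr.symm x.1 y.1 = 0 → polar Q x.1 y.1 = 0 := fun x y h => by
    simpa [h] using (hρ x y).symm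
  have a7 := linearIndependent_of_orth (Q := Q) R.two (v := fun i => (v i).1)
    (fun i => by simp [R.Q_eq _ (v i).2]) fun i j h => by
      rcases lt_or_gt_of_ne h with h | h
      · exact a6 _ _ (List.pairwise_ofFn.1 l3 h)
      · exact polar_comm Q _ _ ▸ a6 _ _ (List.pairwise_ofFn.1 l3 h)
  have a8 : Subtype.val '' {x | x ∈ List.ofFn v} = Set.range fun i => (v i).1 := by
    ext x; simp [List.mem_ofFn]
  obtain rfl : n = 5 := by
    rcases R.irr _ fun w hw => .inl (a5 ⟨w, hw⟩) with h | h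
    · obtain ⟨e, e0, e1⟩ := exists_singular Q hn
      obtain ⟨w, hw, e2⟩ := R.exists_ne e0 e1
      simp [show w = 0 from h.le (a5 ⟨w, hw⟩)] at e2
    · have := finrank_span_eq_card a7
      rw [← a8, h, finrank_top, h5, Fintype.card_fin] at this
      exact this.symm
  simp only [List.map_ofFn, List.sum_ofFn, Function.comp] at a4
  obtain ⟨i, hi⟩ := exists_free (Set.range fun (w : Φ) i => cl Q ι ((1 + t) / 2) (v i).1 w.1)
    (by
      rintro _ ⟨w, rfl⟩
      simpa only [← lB_sq ι hf hr.symm, pow_two, H.self, show (2 : Rg) * 2 = 4 by norm_num]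
        using a4 w w)
    (by
      rintro _ ⟨w, rfl⟩ i
      refine (sq6_im _).1 ?_
      rcases lB_or (Q := Q) ι hf hr.symm (v i).1 w.1 with a | a <;> simpa [a] using a1 (v i) w)
    (by
      rintro _ ⟨w, rfl⟩ _ ⟨u, rfl⟩
      have b1 : (2 : QuadraticAlgebra (ZMod 2) 1 1) = 0 := by decide
      have b2 : ∀ x y, m2 (lB Q ι hf hr.symm x y) = m2 (sq6 (cl Q ι ((1 + t) / 2) x y)) :=
        fun x y => by
          rcases lB_or (Q := Q) ι hf hr.symm x y with a | a <;> rw [a]
          rw [map_neg, neg_eq_iff_add_eq_zero, ← two_mul, b1, zero_mul]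
      simpa only [map_sum, map_mul, b2, map_ofNat, b1, zero_mul] using congrArg m2 (a4 w u))
  have := finrank_span_singleton (K := F)
    (ne_zero_of_Q_ne_zero (Q := Q) (v := (v i).1) (by simp [R.Q_eq _ (v i).2]))
  rcases R.irr (F ∙ (v i).1) fun w hw => (hi _ ⟨⟨w, hw⟩, rfl⟩).imp (fun h => by
      rw [← neg_mem_iff, ← neg_neg w]
      rcases cl_eq_zero ι h with a | a <;> simp [a, -neg_mem_iff] <;> simp) fun h =>
      mem_perp_singleton.2 (a6 _ ⟨w, hw⟩ (by simp [lB, h, sq6_one])) with h | h <;>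
    rw [h] at this <;> simp [h5] at this

end RK

end Cfsg.Lib.Sp4O
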