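import Cfsg.Agent.Lib.Sp4O.Big
import Cfsg.Agent.Lib.PSL2.SmallIso

/-!
# Three-spaces spanned by reflection vectors when the root subgroups are small
-/

set_option autoImplicit false

namespace Cfsg.Lib.Sp4O

open QuadraticMap Module Cfsg.Lib.Orth Matrix Cfsg.Lib.PSL2 Cfsg.Lib.OMax
open scoped MatrixGroups

variable {F V : Type*} [Field F] [AddCommGroup V] [Module F V] {Q : QuadraticForm F V}
  {K : Subgroup (O Q)}

/-- Subgroups of `S₄`, and `A₅`. -/
def SmG (H : Type*) [Group H] : Prop :=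
  (∃ φ : H →* Equiv.Perm (Fin 4), Function.Injective φ) ∨ Nonempty (H ≃* alternatingGroup (Fin 5))

variable (K) in
/-- The group induced on a three-space. -/
abbrev HU (U : Submodule F V) (e f z : V) : Subgroup PGL(2, F) :=
  (Tri.lift K U e f z).map ProjGenLinGroup.mk

variable (K) in
/-- A three-space on which `K` induces a small group. -/
def Sm (U : Submodule F V) : Prop := ∃ e f z, Tri Q U e f z ∧ SmG (HU K U e f z)

theorem tri_nd {U : Submodule F V} {e f z : V} (T : Tri Q U e f z) (h2 : (2 : F) ≠ 0) :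
    ND (Q.restrict U) := nd_restrict_iff.2 fun x hx h => by
  obtain ⟨a, b, c, rfl⟩ := T.exists_comb hx
  have h1 := h _ (T.comb_mem 1 0 0)
  have h3 := h _ (T.comb_mem 0 1 0)
  have h4 := h _ (T.comb_mem 0 0 1)
  rw [T.polar_comb] at h1 h3 h4
  simp [h2, T.ne] at h1 h3 h4
  simp [h1, h3, h4]

theorem mk_eq_of_smul {A B : GL (Fin 2) F} {c : F} (h : A.1 = c • B.1) :
    (ProjGenLinGroup.mk A : PGL(2, F)) = ProjGenLinGroup.mk B := by
  have hc : c ≠ 0 := by
    rintro rfl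
    exact gl_det_ne A (by simp [show ∀ i j, A i j = 0 from fun i j => by simp [h]])
  exact ((pgl_mk_eq_mk_iff _ _).2 ⟨c, hc, by simp [h], by simp [h], by simp [h], by simp [h]⟩).symm

namespace RK
variable {Φ : Set V} (R : RK K Φ)
include R

theorem rep {U : Submodule F V} {e f z : V} (T : Tri Q U e f z) :
    ∃ X : V → PGL(2, F), ∀ a ∈ Φ, a ∈ U → (∃ M ∈ Tri.lift K U e f z, M.1 = iota Q e f z a ∧
      ProjGenLinGroup.mk M = X a) ∧ X a * X a = 1 ∧ ∀ b ∈ Φ, b ∈ U →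
        tau (X a * X b) = polar Q a b ^ 2 ∧ (X a * X b = 1 ↔ a = b ∨ a = -b) ∧
          X a * X b * X a = X ((refl Q a).1 b) := by
  have h1 : ∀ a : V, ∃ M : GL (Fin 2) F, a ∈ Φ → a ∈ U → M ∈ Tri.lift K U e f z ∧
      M.1 = iota Q e f z a := fun a => by
    by_cases h : a ∈ Φ ∧ a ∈ U
    · obtain ⟨M, hM⟩ := T.exists_lift R.two h.2 (by simp [R.Q_eq a h.1]) (R.mem a h.1)
      exact ⟨M, fun _ _ => hM⟩
    · exact ⟨1, fun a1 a2 => (h ⟨a1, a2⟩).elim⟩
  choose M hM using h1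
  have hz := T.ne
  have hi : ∀ a ∈ Φ, a ∈ U → (ProjGenLinGroup.mk (M a) * ProjGenLinGroup.mk (M a) : PGL(2, F)) = 1 :=
    fun a ha haU => by
      rw [← map_mul, pgl_mk_eq_one_iff]
      simp [Units.val_mul, (hM a ha haU).2, T.mul_self R.two haU]
  refine ⟨fun a => ProjGenLinGroup.mk (M a), fun a ha haU => ⟨⟨_, (hM a ha haU).1, (hM a ha haU).2,
    rfl⟩, hi a ha haU, fun b hb hbU => ⟨?_, ⟨fun h => ?_, ?_⟩, ?_⟩⟩⟩
  · rw [← map_mul, tau_mk', Units.val_mul, det_mul, (hM a ha haU).2, (hM b hb hbU).2,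
      T.trace_mul R.two haU hbU, T.det_iota R.two haU, T.det_iota R.two hbU, R.Q_eq a ha,
      R.Q_eq b hb]
    field_simp
  · obtain ⟨u, -, h⟩ := (pgl_mk_eq_mk_iff _ _).1 (mul_right_cancel (h.trans (hi b hb hbU).symm)).symm
    have h3 : a = u • b := T.inj R.two haU (U.smul_mem _ hbU) (by
      rw [map_smul, ← (hM a ha haU).2, ← (hM b hb hbU).2]
      ext i j; fin_cases i <;> fin_cases j <;> simp [h])
    have h4 := R.Q_eq a ha
    rw [h3, Q_smul, R.Q_eq b hb, mul_one] at h4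
    rcases mul_self_eq_one_iff.1 (sq u ▸ h4) with rfl | rfl <;> simp [h3]
  · rintro (rfl | rfl)
    · exact hi _ ha haU
    · beta_reduce
      rw [mk_eq_of_smul (A := M (-b)) (B := M b) (c := -1)
        (by simp [(hM _ ha haU).2, (hM b hb hbU).2]), hi b hb hbU]
  · have h3 : (refl Q a).1 b ∈ U := by rw [R.refl_eq ha]; exact sub_mem hbU (U.smul_mem _ haU)
    rw [← map_mul, ← map_mul]
    refine mk_eq_of_smul (c := -Q z) ?_
    rw [Units.val_mul, Units.val_mul, (hM a ha haU).2, (hM b hb hbU).2,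
      (hM _ (R.refl_mem ha hb) h3).2, eq_sub_of_add_eq (T.anticomm R.two haU hbU), sub_mul,
      mul_assoc, T.mul_self R.two haU, R.Q_eq a ha, R.refl_eq ha, map_sub, map_smul]
    simp only [smul_mul_assoc, one_mul, mul_smul_comm, mul_one]
    module

variable (hB : ¬ Lg K)
include hB

omit R in
theorem nb {e z : V} (h0 : e ≠ 0) (he : Q e = 0) (hz : z ∈ AE K e) (z0 : Q z ≠ 0) {c : F}
    (hc : c • z ∈ AE K e) (c0 : c ≠ 0) : c ^ 2 = 1 :=
  by_contra fun h => hB ⟨e, h0, he, z, hz, z0, c, c0, h, hc⟩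

theorem three {e z : V} (h0 : e ≠ 0) (he : Q e = 0) (hz : z ∈ AE K e) (z0 : Q z ≠ 0) :
    (3 : F) = 0 := by
  linear_combination nb hB h0 he hz z0 (c := 2) (by simpa [two_smul] using add_mem hz hz) R.two

omit hB in
theorem long {e y : V} (h0 : e ≠ 0) (he : Q e = 0) (hy : y ∈ AE K e) (y0 : Q y = 0)
    (h : y ∉ F ∙ e) : ∃ s, s ≠ 0 ∧ Q s = 0 ∧ e ∈ AE K s ∧ ∃ w ∈ Φ, polar Q e w ≠ 0 ∧
      polar Q e w • w ∈ AE K s := by
  obtain ⟨w, hw, hew⟩ := R.exists_ne h0 he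
  have h1 : y - (polar Q w y / polar Q e w) • e ∈ AE K e := sub_mem hy (smul_self_mem_AE he _)
  have h2 : Q (y - (polar Q w y / polar Q e w) • e) = 0 := by
    rw [Q_sub_smul_of_singular he hy.1, y0]
  have h3 : e ∈ AE K (y - (polar Q w y / polar Q e w) • e) :=
    ⟨by rw [polar_comm, h1.1], by rw [eich_swap he h1.1 h2]; exact (neg_mem h1).2⟩
  refine ⟨_, fun h3 => h ?_, h2, h3, w, hw, hew, ?_⟩
  · rw [sub_eq_zero.1 h3]; exact Submodule.smul_mem _ _ (Submodule.mem_span_singleton_self e)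
  · simpa [R.refl_eq hw, polar_comm Q w e] using sub_mem h3 (apply_mem_AE (R.mem w hw)
      (refl_apply_of_perp (sub_mem_hperp he hew hy.1).2) h3)

theorem three' {e y : V} (h0 : e ≠ 0) (he : Q e = 0) (hy : y ∈ AE K e) (h : y ∉ F ∙ e) :
    (3 : F) = 0 := by
  by_cases y0 : Q y = 0
  · obtain ⟨s, s0, s1, -, w, hw, hew, h1⟩ := R.long h0 he hy y0 h
    exact R.three hB s0 s1 h1 (by simp [Q_smul, hew, R.Q_eq w hw])
  · exact R.three hB h0 he hy y0

theorem pow_four {y u v : V} (h0 : y ≠ 0) (hy : Q y = 0) (hu : u ∈ Φ) (hv : v ∈ Φ) {c : F}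
    (c0 : c ≠ 0) (h : c • v ∈ AE K y) (hyu : polar Q y u = 0) (huv : polar Q u v ≠ 0) :
    polar Q u v ^ 4 = 1 := by
  have key : ∀ a ∈ Φ, polar Q y a = 0 → ∀ b ∈ AE K y, polar Q a b • a ∈ AE K y :=
    fun a ha h1 b hb => by
      simpa [R.refl_eq ha] using sub_mem hb (apply_mem_AE (R.mem a ha)
        (refl_apply_of_perp (polar_comm Q y a ▸ h1)) hb)
  have h1 := key v hv (by simpa [c0] using h.1) _ (key u hu hyu _ h)
  have := nb hB h0 hy h (by simp [Q_smul, c0, R.Q_eq v hv]) (c := polar Q u v ^ 2) (by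
    convert h1 using 1
    simp only [polar_smul_right', polar_comm Q v u]; module) (pow_ne_zero 2 huv)
  linear_combination this

variable [Finite F] [FiniteDimensional F V]

theorem tau_ne {U : Submodule F V} {e f z : V} (T : Tri Q U e f z) {g : PGL(2, F)}
    (hg : g ∈ HU K U e f z) (h1 : g ≠ 1) (h4 : tau g = 4) : (3 : F) = 0 := by
  obtain ⟨M, hM, rfl⟩ := hg
  obtain ⟨s, s1, s2, t, t1, t2⟩ := T.exists_eich R.two R.nd (tri_nd T R.two) hM h1 h4
  exact R.three' hB s1 s2 t1 t2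

theorem smU {U : Submodule F V} {e u v w : V} (he : Good Q U e)
    (hs : U ≤ Submodule.span F {u, v, w}) (hu : u ∈ Φ) (hv : v ∈ Φ) (hw : w ∈ Φ) (huU : u ∈ U)
    (hvU : v ∈ U) (hwU : w ∈ U) (huv : polar Q u v ≠ 0) (h4 : ¬ (u = v ∨ u = -v))
    (h8 : ¬ (w = u ∨ w = -u)) (h9 : ¬ (w = v ∨ w = -v))
    (h7 : ¬ (polar Q w u = 0 ∧ polar Q w v = 0)) : Sm K U := by
  have hU3 := (Submodule.finrank_mono hs).trans (Unitary.finrank_span_triple_le u v w)
  obtain ⟨f, z, T⟩ := exists_tri hU3 he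
  have hU := tri_nd T R.two
  obtain ⟨p, hp⟩ := CharP.exists F
  have : Fact p.Prime := ⟨CharP.char_is_prime F p⟩
  have nofix : ∀ e f z, Tri Q U e f z → ∀ a : P1 F,
      ¬ HU K U e f z ≤ MulAction.stabilizer PGL(2, F) a := fun e f z T a h => by
    obtain ⟨X, hX⟩ := R.rep T
    have : ∀ x ∈ Φ, x ∈ U → ∃ M : GL (Fin 2) F, M.1 = iota Q e f z x ∧
        pglMap (RingHom.id F) (ProjGenLinGroup.mk M) • emb (RingHom.id F) a =
          emb (RingHom.id F) a := fun x h1 h2 => by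
      obtain ⟨⟨M, a1, a2, -⟩, -⟩ := hX x h1 h2
      exact ⟨M, a2, (pglMap_smul_emb_eq_iff _ _ _ _).2 (h ⟨M, a1, rfl⟩)⟩
    refine T.not_smul_eq R.two (RingHom.id F) (a := emb (RingHom.id F) a)
      (b := emb (RingHom.id F) a) hs ?_
    simp only [Set.mem_insert_iff, Set.mem_singleton_iff, forall_eq_or_imp, forall_eq]
    exact ⟨this u hu huU, this v hv hvU, this w hw hwU⟩
  rcases dickson_pgl (AlgebraicClosure F) p (HU K U e f z) with
    ⟨a, h⟩ | ⟨a, b, m, hab, h⟩ | ⟨-, ⟨⟨E⟩⟩ | ⟨⟨E⟩⟩ | h⟩ | ⟨rfl, h⟩ | ⟨a, h, -⟩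
  · exact (nofix e f z T a h).elim
  · obtain ⟨X, hX⟩ := R.rep T
    have key : ∀ s ∈ Φ, s ∈ U → ∀ t ∈ Φ, t ∈ U → polar Q s t ≠ 0 → ¬ (s = t ∨ s = -t) →
        ∃ M : GL (Fin 2) F, M.1 = iota Q e f z s ∧
          pglMap (algebraMap F (AlgebraicClosure F)) (ProjGenLinGroup.mk M) • a = b :=
      fun s hs hsU t ht htU a3 a4 => by
      obtain ⟨⟨M, b1, b2, b3⟩, b4, b5⟩ := hX s hs hsU
      obtain ⟨⟨N, c1, -, c3⟩, c4, -⟩ := hX t ht htU
      refine ⟨M, b2, ((mem_pairStab.1 (mem_dih.1 (h ⟨M, b1, rfl⟩))).resolve_left fun a7 => ?_).1⟩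
      rw [b3] at a7
      have a8 : Commute (X t) (X s) := by
        refine toK_injective (K := AlgebraicClosure F) ?_
        rw [map_mul, map_mul]
        rcases mem_pairStab.1 (mem_dih.1 (h ⟨N, c1, c3⟩)) with a8 | a8
        · exact commute_of_fix_two hab.1 a8.1 a8.2 a7.1 a7.2
        · rw [← mul_inv_eq_iff_eq_mul, conj_eq_inv_of_swap hab.1 a8.1 a8.2 a7.1 a7.2, ← map_inv,
            inv_eq_of_mul_eq_one_left b4]
      have a10 := (mul_self_eq_one_iff_tau (mt (b5 t ht htU).2.1.1 a4)).1 (by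
        rw [mul_assoc, ← mul_assoc (X t), a8.eq, mul_assoc, c4, mul_one, b4])
      simp [(b5 t ht htU).1, a3] at a10
    refine (T.not_smul_eq R.two (algebraMap F (AlgebraicClosure F)) (a := a) (b := b) hs ?_).elim
    simp only [Set.mem_insert_iff, Set.mem_singleton_iff, forall_eq_or_imp, forall_eq]
    refine ⟨key u hu huU v hv hvU huv h4, key v hv hvU u hu huU (polar_comm Q u v ▸ huv)
      (by rintro (rfl | rfl) <;> simp at h4), ?_⟩
    by_cases a1 : polar Q w u = 0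
    · exact key w hw hwU v hv hvU (fun h => h7 ⟨a1, h⟩) h9
    · exact key w hw hwU u hu huU a1 h8
  · exact ⟨e, f, z, T, .inl ⟨(Subgroup.subtype _).comp E.toMonoidHom,
      Subtype.val_injective.comp E.injective⟩⟩
  · exact ⟨e, f, z, T, .inl ⟨E.toMonoidHom, E.injective⟩⟩
  · exact ⟨e, f, z, T, .inr h⟩
  · exact ⟨e, f, z, T, .inr h⟩
  obtain ⟨⟨_, ⟨M, ⟨g, g1, ε, g2, g3, g4⟩, rfl⟩, a1⟩, a2⟩ := Subgroup.ne_bot_iff_exists_ne_one.1 h
  let L : Subgroup (O Q) :=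
    { carrier := {g | g ∈ K ∧ ∀ x, g.1 x - x ∈ U}
      one_mem' := ⟨one_mem _, fun x => by simp [O.one_apply]⟩
      mul_mem' := fun {a b} ha hb => ⟨mul_mem ha.1 hb.1, fun x => by
        simpa [O.mul_apply] using add_mem (ha.2 (b.1 x)) (hb.2 x)⟩
      inv_mem' := fun {a} ha => ⟨inv_mem ha.1, fun x => by
        simpa using neg_mem (ha.2 ((a⁻¹).1 x))⟩ }
  obtain ⟨s, s1, s2, t, ⟨t1, t2, t3⟩, t4⟩ := T.exists_eich (K := L) R.two R.nd hU
    ⟨g, ⟨g1, g3⟩, ε, g2, g3, g4⟩ (fun h => a2 (Subtype.ext h)) (tau_of_mem_unip a1)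
  have hsU : s ∈ U := by
    obtain ⟨x, x1, x2⟩ := exists_perp_polar_eq R.nd t4 1
    simpa [eich_apply_of_perp s2 t1 (mem_perp_singleton.1 x1), x2] using t3 x
  have htU : t ∈ U := by
    obtain ⟨x, hx⟩ := R.nd.exists_polar_ne s1
    have := sub_mem (U.smul_mem (polar Q t x - Q t * polar Q s x) hsU) (t3 x)
    rwa [eich_apply s2 t1, show ∀ a b : V, a = polar Q s x • t → (a ∈ U) = (polar Q s x • t ∈ U)
      from fun _ _ h => h ▸ rfl, U.smul_mem_iff hx] at this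
    exacts [0, by module]
  obtain ⟨f, z, T⟩ := exists_tri hU3 (good_of_nd hU (RG.Good.three_le he) hsU s2 s1)
  obtain ⟨a, b, c, rfl⟩ := T.exists_comb htU
  obtain rfl : b = 0 := by simpa using (T.polar_comb 1 0 0 a b c).symm.trans (by simpa using t1)
  have c0 : c ≠ 0 := by
    rintro rfl
    exact t4 (by simpa using Submodule.smul_mem _ _ (Submodule.mem_span_singleton_self s))
  have hc : c • z ∈ AE K s := by
    simpa using sub_mem (mem_AE.2 ⟨t1, t2⟩) (smul_self_mem_AE (K := K) s2 a)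
  rcases dickson_pgl_unip (AlgebraicClosure F) p (HU K U s f z) (x := inf) (fun h => by
      simpa [aff_eq_one_iff, c0] using h.le ⟨up_mem T R.two hc, aff_mem_unip_inf.2 rfl⟩) with
    h | ⟨rfl, -⟩ | ⟨-, h⟩ | h
  · exact (nofix s f z T _ h).elim
  · exact (R.two (by simpa using CharP.cast_eq_zero F 2)).elim
  · exact ⟨s, f, z, T, .inr h⟩
  obtain ⟨k, hk, h3, h5⟩ := h.exists_equiv
  have h6 : (transl (HU K U s f z) : Set F) = {0, c, -c} := by
    refine Set.Subset.antisymm (fun d hd => ?_) (by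
      simpa [Set.insert_subset_iff] using mem_transl.2 (up_mem T R.two hc))
    by_cases d0 : d = 0
    · simp [d0]
    have := nb hB s1 s2 hc (by simp [Q_smul, c0, T.ne]) (c := d / c)
      (by simpa [smul_smul, c0] using of_aff T R.two R.nd hd) (div_ne_zero d0 c0)
    rw [div_pow, div_eq_one_iff_eq (pow_ne_zero 2 c0), sq_eq_sq_iff_eq_or_eq_neg] at this
    simp [this]
  rw [← card_transl, show Nat.card (transl (HU K U s f z)) = 3 from
    (Nat.card_coe_set_eq _).trans (Set.ncard_eq_three.2 ⟨0, c, -c, c0.symm, by simpa, fun h =>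
      mul_ne_zero R.two c0 (by linear_combination h), h6⟩)] at h3
  obtain ⟨φ, hφ⟩ := exists_injective_perm_pgl (F := k) (n := 4) (by rw [h3])
  rcases h5 with ⟨⟨E⟩⟩ | ⟨⟨E⟩⟩
  · exact ⟨s, f, z, T, .inl ⟨(φ.comp toP).comp E.toMonoidHom,
      (hφ.comp toP_injective).comp E.injective⟩⟩
  · exact ⟨s, f, z, T, .inl ⟨φ.comp E.toMonoidHom, hφ.comp E.injective⟩⟩

end RK

end Cfsg.Lib.Sp4O
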