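import Cfsg.Agent.Lib.Sp4O.Loc

/-!
# Every connected triple of reflection vectors lies in a small three-space
-/

set_option autoImplicit false

namespace Cfsg.Lib.Sp4O

open QuadraticMap Module Cfsg.Lib.Orth Matrix Cfsg.Lib.PSL2 Cfsg.Lib.OMax
open scoped MatrixGroups

variable {F V : Type*} [Field F] [AddCommGroup V] [Module F V] {Q : QuadraticForm F V}
  {K : Subgroup (O Q)}

theorem SmG.pow {H : Type*} [Group H] (h : SmG H) : (∀ g : H, g ^ 3 = 1 ∨ g ^ 4 = 1) ∨
    ∀ g : H, g ^ 2 = 1 ∨ g ^ 3 = 1 ∨ g ^ 5 = 1 := by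
  rcases h with ⟨φ, h⟩ | ⟨⟨E⟩⟩
  · have : ∀ x : Equiv.Perm (Fin 4), x ^ 3 = 1 ∨ x ^ 4 = 1 := by decide +kernel
    exact .inl fun g => by simpa only [← map_pow, map_eq_one_iff φ h] using this (φ g)
  · have : ∀ x : alternatingGroup (Fin 5), x ^ 2 = 1 ∨ x ^ 3 = 1 ∨ x ^ 5 = 1 := by decide +kernel
    exact .inr fun g => by simpa only [← map_pow, EmbeddingLike.map_eq_one_iff] using this (E g)

namespace RK
variable {Φ : Set V} (R : RK K Φ)
include R

theorem ang {U : Submodule F V} (h : Sm K U) :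
    (∀ a ∈ Φ, a ∈ U → ∀ b ∈ Φ, b ∈ U → ¬ (a = b ∨ a = -b) → polar Q a b ^ 2 = 1 ∨
      polar Q a b ^ 2 = 0 ∨ polar Q a b ^ 2 = 2) ∨
    ∀ a ∈ Φ, a ∈ U → ∀ b ∈ Φ, b ∈ U → ¬ (a = b ∨ a = -b) → polar Q a b ^ 2 = 0 ∨
      polar Q a b ^ 2 = 1 ∨ (polar Q a b ^ 2) ^ 2 - 3 * polar Q a b ^ 2 + 1 = 0 := by
  obtain ⟨e, f, z, T, h⟩ := h
  obtain ⟨X, hX⟩ := R.rep T
  have hm : ∀ a ∈ Φ, a ∈ U → X a ∈ HU K U e f z := fun a ha haU =>
    let ⟨M, h1, _, h2⟩ := (hX a ha haU).1; ⟨M, h1, h2⟩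
  refine h.pow.imp (fun h a ha haU b hb hbU hab => ?_) fun h a ha haU b hb hbU hab => ?_ <;>
  · obtain ⟨h1, h2, -⟩ := (hX a ha haU).2.2 b hb hbU
    have := h ⟨_, mul_mem (hm a ha haU) (hm b hb hbU)⟩
    simpa only [Subtype.ext_iff, SubmonoidClass.coe_pow, OneMemClass.coe_one, h1,
      pow_three_eq_one_iff_tau (mt h2.1 hab), pow_four_eq_one_iff_tau (mt h2.1 hab),
      pow_five_eq_one_iff_tau (mt h2.1 hab), sq_eq_one_iff_tau (mt h2.1 hab)] using this

theorem sq_of_eq {a b : V} (hb : b ∈ Φ) (h : a = b ∨ a = -b) : polar Q a b ^ 2 = 4 := by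
  rcases h with rfl | rfl <;> simp [R.polar_self hb] <;> norm_num

theorem rg (h : PrimeF F) : RG K (1 : F) :=
  ⟨R.nd, R.two, h, one_ne_zero, fun M hM => R.irr M fun w hw => hM w (R.Q_eq w hw) (R.mem w hw)⟩

theorem sub_sing {a b : V} (ha : a ∈ Φ) (hb : b ∈ Φ) (h : polar Q a b = 2) :
    Q (a - b) = 0 ∧ a ∈ AE K (a - b) := by
  have h1 : Q (a - b) = 0 := by rw [Q_sub, R.Q_eq a ha, R.Q_eq b hb, h]; ring
  simpa [h1, R.Q_eq a ha] using mem_AE_of_sub (R.mem a ha) (R.mem b hb) (by simp [R.Q_eq a ha])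
    ((R.Q_eq a ha).trans (R.Q_eq b hb).symm) h1

theorem exists_two {a b : V} (hb : b ∈ Φ) (h : polar Q a b ^ 2 = 4) :
    ∃ c ∈ Φ, (b = c ∨ b = -c) ∧ polar Q a c = 2 := by
  rcases sq_eq_sq_iff_eq_or_eq_neg.1 (h.trans (by ring : _ = (2 : F) ^ 2)) with h | h
  · exact ⟨b, hb, .inl rfl, h⟩
  · exact ⟨-b, R.neg hb, by simp, by simp [h]⟩

variable (hB : ¬ Lg K) [Finite F] [FiniteDimensional F V] (hn : 3 ≤ finrank F V)
include hB hn

theorem ext {u v w : V} (hu : u ∈ Φ) (hv : v ∈ Φ) (huv : polar Q u v ≠ 0)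
    (h4 : polar Q u v ^ 2 ≠ 4) (h3 : ¬ ((3 : F) = 0 ∧ polar Q u v ^ 2 = 2)) (hw : w ∈ Φ)
    (h7 : ¬ (polar Q w u = 0 ∧ polar Q w v = 0)) : ∃ U, Sm K U ∧ u ∈ U ∧ v ∈ U ∧ w ∈ U := by
  have hu1 : u ∈ Submodule.span F {u, v} := Submodule.subset_span (by simp)
  have hv1 : v ∈ Submodule.span F {u, v} := Submodule.subset_span (by simp)
  have qu := R.Q_eq u hu
  have qv := R.Q_eq v hv
  have h5 : ∀ a b : F, polar Q (a • u + b • v) u = 0 → polar Q (a • u + b • v) v = 0 →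
      a = 0 ∧ b = 0 := fun a b a1 a2 => by
    simp only [polar_add_left, polar_smul_left', polar_self', qu, qv, polar_comm Q v u] at a1 a2
    exact ⟨mul_left_cancel₀ (sub_ne_zero.2 h4) (by linear_combination polar Q u v * a2 - 2 * a1),
      mul_left_cancel₀ (sub_ne_zero.2 h4) (by linear_combination polar Q u v * a1 - 2 * a2)⟩
  have hP : ND (Q.restrict (Submodule.span F {u, v})) := nd_restrict_iff.2 fun x hx h => by
    obtain ⟨a, b, rfl⟩ := Submodule.mem_span_pair.1 hx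
    simp [h5 a b (h u hu1) (h v hv1)]
  have hP2 : finrank F (Submodule.span F {u, v}) = 2 := by
    rw [Submodule.span_insert, sup_comm, finrank_sup_span_singleton' fun h => ?_,
      finrank_span_singleton (ne_zero_of_Q_ne_zero (by simp [qv] : Q v ≠ 0))]
    obtain ⟨c, rfl⟩ := Submodule.mem_span_singleton.1 h
    simpa using (h5 1 (-c) (by simp) (by simp)).1
  suffices H : ∀ w ∈ Φ, w ∉ Submodule.span F {u, v} → w ∉ perp Q (Submodule.span F {u, v}) →
      ∃ U, Sm K U ∧ Submodule.span F {u, v} ≤ U ∧ w ∈ U by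
    by_cases h6 : w ∈ Submodule.span F {u, v}
    · obtain ⟨t, ht, h8, h9⟩ : ∃ w ∈ Φ, w ∉ Submodule.span F {u, v} ∧
          w ∉ perp Q (Submodule.span F {u, v}) := by
        by_contra! h
        rcases R.irr _ fun w a1 => or_iff_not_imp_left.2 (h w a1) with h | h <;>
          rw [h] at hP2 <;> simp at hP2
        omega
      obtain ⟨U, a1, a2, -⟩ := H t ht h8 h9
      exact ⟨U, a1, a2 hu1, a2 hv1, a2 h6⟩
    · obtain ⟨U, a1, a2, a3⟩ := H w hw h6 (by rwa [mem_perp_pair, polar_comm Q u, polar_comm Q v])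
      exact ⟨U, a1, a2 hu1, a2 hv1, a3⟩
  clear hw h7 w
  intro w hw h6 h7
  have S := isOSum_perp hP
  obtain ⟨x, hx, y, hy, rfl⟩ := S.exists_add w
  have hy0 : y ≠ 0 := fun h => h6 (by simpa [h])
  by_cases hy1 : Q y = 0
  · exfalso
    have a1 : Q x = 1 := by rw [← R.Q_eq _ hw, S.Q_add hx hy, hy1, add_zero]
    have a2 : Q (-y) = 0 := by rw [Q.map_neg, hy1]
    have a3 : ∀ m ∈ Submodule.span F {u, v}, polar Q (-y) m = 0 := fun m hm => by
      rw [polar_neg_left, polar_comm, S.orth m hm y hy, neg_zero]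
    have a4 : refl Q (x + y) = refl Q x * eich Q (-y) x := by
      rw [eich_eq_refl_mul_refl a2 (a3 x hx) (by simp [a1]), ← mul_assoc, refl_mul_self, one_mul,
        a1]
      simp
    have a5 := congrArg S.symm.extR (plane_refl_conj hP hP2 (z := refl _ ⟨u, hu1⟩ * refl _ ⟨v, hv1⟩)
      (by rw [map_mul, dickson_refl hP (v := ⟨u, hu1⟩) (show Q u ≠ 0 by simp [qu]),
        dickson_refl hP (v := ⟨v, hv1⟩) (show Q v ≠ 0 by simp [qv])]; simp) (v := ⟨x, hx⟩)
        (show Q x ≠ 0 by simp [a1]))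
    simp only [map_mul, map_inv, IsOSum.extR_refl] at a5
    have a6 : ∀ m ∈ Submodule.span F {u, v}, (refl Q m).1 (-y) = -y := fun m hm =>
      refl_apply_of_perp (by rw [polar_comm, a3 m hm])
    have a7 : ∀ m ∈ Submodule.span F {u, v}, (refl Q m).1 x ∈ Submodule.span F {u, v} :=
      fun m hm => apply_mem_of_mem_stab (refl_mem_stab_of_mem hm) hx
    have a8 : ((refl Q u * refl Q v)⁻¹).1 x ∈ Submodule.span F {u, v} := apply_mem_of_mem_stab
      (inv_mem (mul_mem (refl_mem_stab_of_mem hu1) (refl_mem_stab_of_mem hv1))) hx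
    have a9 : eich Q (-y) ((refl Q x).1 x + ((refl Q u * refl Q v)⁻¹).1 x) ∈ K := by
      rw [eich_add a2 (a3 _ (a7 x hx)) (a3 _ a8)]
      have b1 := conj_eich (refl Q x) (-y) x
      have b2 := conj_eich (refl Q u * refl Q v)⁻¹ (-y) x
      rw [a6 x hx] at b1
      rw [show ((refl Q u * refl Q v)⁻¹).1 (-y) = -y by
        rw [O.inv_apply_eq, O.mul_apply, a6 v hv1, a6 u hu1]] at b2
      rw [← b1, ← b2]
      convert mul_mem (mul_mem (mul_mem (R.mem _ hw) (mul_mem (R.mem u hu) (R.mem v hv)))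
        (R.mem _ hw)) (mul_mem (R.mem u hu) (R.mem v hv)) using 1
      rw [a4, inv_inv]
      nth_rewrite 1 [← a5]
      simp only [refl_inv, mul_assoc, ← mul_assoc (refl Q x) (refl Q x), refl_mul_self, one_mul]
    have b0 := add_mem (a7 x hx) a8
    have b1 : (refl Q x).1 x + ((refl Q u * refl Q v)⁻¹).1 x ≠ 0 := fun b1 => h7 (by
      rw [refl_apply_self (by simp [a1]), neg_add_eq_zero, eq_comm, O.inv_apply_eq, O.mul_apply,
        ← O.inv_apply_eq, refl_inv, refl_apply, refl_apply, sub_right_inj, ← sub_eq_zero,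
        sub_eq_add_neg, ← neg_smul] at b1
      have b2 := h5 _ _ (by rw [b1, polar_zero_left]) (by rw [b1, polar_zero_left])
      refine add_mem (mem_perp_pair.2 ?_) hy
      simpa [qu, qv] using b2)
    have b2 : (refl Q x).1 x + ((refl Q u * refl Q v)⁻¹).1 x ∈ AE K (-y) := ⟨a3 _ b0, a9⟩
    generalize (refl Q x).1 x + ((refl Q u * refl Q v)⁻¹).1 x = m at b0 b1 b2
    have key : ∀ a ∈ Φ, ∀ b ∈ Φ, polar Q (-y) a = 0 → polar Q (-y) b = 0 → polar Q b a ≠ 0 →
        polar Q a m ≠ 0 → (3 : F) = 0 ∧ polar Q b a ^ 4 = 1 := fun a ha b hb c1 c2 c3 c4 => by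
      have : polar Q a m • a ∈ AE K (-y) := by
        simpa [R.refl_eq ha] using sub_mem b2 (apply_mem_AE (R.mem a ha)
          (refl_apply_of_perp (polar_comm Q (-y) a ▸ c1)) b2)
      exact ⟨R.three hB (neg_ne_zero.2 hy0) a2 this (by simp [Q_smul, c4, R.Q_eq a ha]),
        R.pow_four hB (neg_ne_zero.2 hy0) a2 hb ha c4 this c2 c3⟩
    have b3 : (3 : F) = 0 ∧ polar Q u v ^ 4 = 1 := by
      by_cases c : polar Q v m = 0
      · rw [polar_comm]
        refine key u hu v hv (a3 u hu1) (a3 v hv1) (polar_comm Q u v ▸ huv) fun c' => b1 ?_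
        exact nd_restrict_iff.1 hP m b0 (mem_perp'.1 (mem_perp_pair.2 ⟨c', c⟩))
      · exact key v hv u hu (a3 v hv1) (a3 u hu1) huv c
    exact h3 ⟨b3.1, mul_left_cancel₀ (sub_ne_zero.2 h4) (by
      linear_combination b3.2 - (2 * polar Q u v ^ 2 - 3) * b3.1)⟩
  have hy2 : F ∙ y ≤ perp Q (Submodule.span F {u, v}) := by simpa
  have hU := nd_sup hP (nd_span_singleton R.two hy1) hy2
  have hU3 : finrank F ↥(Submodule.span F {u, v} ⊔ F ∙ y) = 3 := by
    rw [finrank_sup_span_singleton' fun h => h6 (add_mem hx h), hP2]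
  obtain ⟨e, he⟩ := exists_good hU hU3.ge
  have hs : Submodule.span F {u, v} ⊔ F ∙ y ≤ Submodule.span F {u, v, x + y} := by
    have : Submodule.span F {u, v} ≤ Submodule.span F {u, v, x + y} :=
      Submodule.span_mono (by simp [Set.insert_subset_iff])
    refine sup_le this ((Submodule.span_singleton_le_iff_mem _ _).2 ?_)
    simpa using sub_mem (Submodule.subset_span (by simp) : x + y ∈ _) (this hx)
  have hwU : x + y ∈ Submodule.span F {u, v} ⊔ F ∙ y :=
    add_mem (Submodule.mem_sup_left hx) (Submodule.mem_sup_right (Submodule.mem_span_singleton_self y))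
  exact ⟨_, R.smU hB he hs hu hv hw (Submodule.mem_sup_left hu1) (Submodule.mem_sup_left hv1) hwU
    huv (fun h => h4 (R.sq_of_eq hv h)) (by rintro (h | h) <;> simp [h, hu1] at h6)
    (by rintro (h | h) <;> simp [h, hv1] at h6)
    (by rwa [mem_perp_pair, polar_comm Q u, polar_comm Q v] at h7), le_sup_left, hwU⟩

omit hn in
theorem ext4 {x w t : V} (hx : x ∈ Φ) (hw : w ∈ Φ) (ht : t ∈ Φ) (h : polar Q x w = 2)
    (h0 : x ≠ w) (h1 : polar Q (x - w) t ≠ 0) : Sm K (Submodule.span F {x, w, t}) := by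
  obtain ⟨h2, h3, -⟩ := R.sub_sing hx hw h
  have h4 : polar Q (x - w) w = 0 := by rw [polar_sub_left, h, R.polar_self hw, sub_self]
  have a1 : x ∈ Submodule.span F {x, w, t} := Submodule.subset_span (by simp)
  have a2 : w ∈ Submodule.span F {x, w, t} := Submodule.subset_span (by simp)
  have a3 : t ∈ Submodule.span F {x, w, t} := Submodule.subset_span (by simp)
  refine R.smU hB (RG.good_of_polar_ne h2 (sub_mem a1 a2) a3 a1 h1 h3 (by simp [R.Q_eq x hx]))
    le_rfl hx hw ht a1 a2 a3 (h ▸ R.two) ?_ (by rintro (rfl | rfl) <;> simp [h3] at h1)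
    (by rintro (rfl | rfl) <;> simp [h4] at h1) fun h => h1 ?_
  · rintro (rfl | rfl)
    · exact h0 rfl
    · rw [polar_neg_left, R.polar_self hw] at h
      exact mul_ne_zero R.two R.two (by linear_combination -h)
  · rw [polar_comm, polar_sub_right, h.1, h.2, sub_self]

theorem ang3 (h3 : (3 : F) = 0) {u v : V} (hu : u ∈ Φ) (hv : v ∈ Φ) : polar Q u v ^ 2 = 0 ∨
    polar Q u v ^ 2 = 1 ∨ polar Q u v ^ 2 = 2 ∨ polar Q u v ^ 4 = -1 := by
  by_contra! h
  have h4 : polar Q u v ^ 2 ≠ 4 := fun a => h.2.1 (by linear_combination a + h3)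
  obtain ⟨U, a1, a2, a3, -⟩ := R.ext hB hn hu hv (by simpa using h.1) h4 (fun a => h.2.2.1 a.2) hu
    (by simp [R.polar_self hu, R.two])
  rcases R.ang a1 with a | a <;> have := a u hu a2 v hv a3 fun b => h4 (R.sq_of_eq hv b)
  · tauto
  · exact h.2.2.2 (by
      linear_combination ((this.resolve_left h.1).resolve_left h.2.1) + polar Q u v ^ 2 * h3)

theorem prime (h3 : (3 : F) = 0) (h : ∀ u ∈ Φ, ∀ v ∈ Φ, polar Q u v ^ 4 ≠ -1) : PrimeF F := by
  let k : Subfield F :=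
    { carrier := {x | x ^ 3 = x}
      mul_mem' := fun {a b} (ha : _ = _) (hb : _ = _) => show _ = _ by rw [mul_pow, ha, hb]
      one_mem' := one_pow 3
      add_mem' := fun {a b} (ha : _ = _) (hb : _ = _) => show _ = _ by
        linear_combination ha + hb + (a ^ 2 * b + a * b ^ 2) * h3
      zero_mem' := zero_pow three_ne_zero
      neg_mem' := fun {a} (ha : _ = _) => show _ = _ by linear_combination -ha
      inv_mem' := fun a (ha : _ = _) => show _ = _ by rw [inv_pow, ha] }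
  have : k = ⊤ := R.ns k fun u hu v hv => show _ = _ by
    rcases R.ang3 hB hn h3 hu hv with a | a | a | a
    · simp [a]
    · simp [a]
    · rw [a]; linear_combination 2 * h3
    · exact (h u hu v hv a).elim
  intro x
  have h1 : x ^ 3 = x := this.ge trivial
  have : x * ((x - 1) * (x - 2)) = 0 := by linear_combination h1 - (x ^ 2 - x) * h3
  simp only [mul_eq_zero, sub_eq_zero] at this
  rcases this with rfl | rfl | rfl
  exacts [⟨0, by simp⟩, ⟨1, by simp⟩, ⟨2, by simp⟩]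

theorem gold {x : V} (hx : x ∈ Φ) (h : ¬ ∀ u ∈ Φ, ∀ v ∈ Φ, polar Q u v ^ 4 ≠ -1) :
    ∃ t ∈ Φ, polar Q x t ^ 4 = -1 := by
  push Not at h
  obtain ⟨u, hu, v, hv, h⟩ := h
  obtain ⟨g, hg, rfl⟩ := R.tr u hu x hx
  exact ⟨_, R.inv g hg v hv, by simpa⟩

theorem ne_two (h3 : (3 : F) = 0) {u v : V} (hu : u ∈ Φ) (hv : v ∈ Φ) :
    polar Q u v ^ 2 ≠ 2 := fun h => by
  by_cases hG : ∀ u ∈ Φ, ∀ v ∈ Φ, polar Q u v ^ 4 ≠ -1
  · exact (R.prime hB hn h3 hG).two_mul_sq_ne h3 (polar Q u v) (by linear_combination 2 * h + h3)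
  obtain ⟨t, ht, h1⟩ := R.gold hB hn hu hG
  have h2 := R.two
  have a0 : polar Q u t ^ 2 ≠ 0 := fun a => one_ne_zero (α := F)
    (by linear_combination h1 - polar Q u t ^ 2 * a)
  have a1 : polar Q u t ^ 2 ≠ 1 := fun a => h2
    (by linear_combination h1 - (polar Q u t ^ 2 + 1) * a)
  have a2 : polar Q u t ^ 2 ≠ 2 := fun a => h2
    (by linear_combination h1 - (polar Q u t ^ 2 + 2) * a - h3)
  have a4 : polar Q u t ^ 2 ≠ 4 := fun a => a1 (by linear_combination a + h3)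
  obtain ⟨U, b1, b2, b3, b4⟩ := R.ext hB hn hu ht (by simpa using a0) a4 (fun a => a2 a.2) hv
    fun a => h2 (by rw [← h, polar_comm, a.1]; ring)
  rcases R.ang b1 with a | a
  · have := a u hu b2 t ht b3 fun b => a4 (R.sq_of_eq ht b)
    tauto
  · rcases a u hu b2 v hv b4 fun b => h2 (by linear_combination h - R.sq_of_eq hv b) with a | a | a
    · exact h2 (h.symm.trans a)
    · exact one_ne_zero (α := F) (by linear_combination a - h)
    · exact one_ne_zero (α := F) (by rw [h] at a; linear_combination -a)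

theorem mem_span (hc : ¬ commutator (O Q) ≤ K) (h3 : (3 : F) = 0) {x w u : V} (hx : x ∈ Φ)
    (hw : w ∈ Φ) (hu : u ∈ Φ) (h1 : polar Q x w = 2) (h2 : polar Q x u = 2)
    (h4 : polar Q (x - w) u = 0) (h0 : x ≠ w) : x - u ∈ F ∙ (x - w) := by
  by_contra h
  obtain ⟨y1, y2⟩ := R.sub_sing hx hw h1
  obtain ⟨y3, y4⟩ := R.sub_sing hx hu h2
  have h5 : polar Q (x - w) (x - u) = 0 := by rw [polar_sub_right, y2.1, h4, sub_self]
  have y0 := sub_ne_zero.2 h0
  by_cases hG : ∀ u ∈ Φ, ∀ v ∈ Φ, polar Q u v ^ 4 ≠ -1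
  · have a1 := add_mem y2 (apply_mem_AE (R.mem u hu)
      (refl_apply_of_perp (polar_comm Q u _ ▸ h4)) y2)
    rw [R.refl_eq hu, polar_comm Q u, h2] at a1
    obtain ⟨s, s0, s1, s2, t, -, t1, t2⟩ := R.long y0 y1 (half_mem R.two (w := x - u)
      (by convert a1 using 1; module)) y3 h
    exact hc ((R.rg (R.prime hB hn h3 hG)).commutator_le_of_hyp s0 s1 s2 y1 t2
      (by rw [polar_smul_right']; exact mul_ne_zero t1 t1))
  obtain ⟨t, ht, t1⟩ := R.gold hB hn hx hG
  have hW := ts_span_pair y1 y3 h5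
  have hx' : ∀ a ∈ Submodule.span F {x - w, x - u}, polar Q x a = 0 :=
    mem_perp'.1 (mem_perp_pair.2 ⟨y2.1, y4.1⟩)
  have hS : ∀ a ∈ Submodule.span F {x - w, x - u}, ∀ b ∈ Submodule.span F {x - w, x - u},
      x - a ∈ Φ → x - b ∈ Φ → x - (-a - b) ∈ Φ := fun a ha b hb a1 a2 => by
    convert R.neg (R.refl_mem a1 a2) using 1
    rw [R.refl_eq a1, polar_sub_left, polar_sub_right, polar_sub_right, R.polar_self hx, hx' b hb,
      polar_comm Q a x, hx' a ha, hW.polar_eq ha hb]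
    linear_combination (norm := module) h3 • a
  let S : AddSubgroup V :=
    { carrier := {a | a ∈ Submodule.span F {x - w, x - u} ∧ x - a ∈ Φ}
      zero_mem' := ⟨zero_mem _, by simpa⟩
      neg_mem' := fun {a} ha => ⟨neg_mem ha.1, by simpa using hS a ha.1 0 (zero_mem _) ha.2 (by simpa)⟩
      add_mem' := fun {a b} ha hb => ⟨add_mem ha.1 hb.1, by
        simpa [add_comm] using hS _ (sub_mem (neg_mem ha.1) hb.1) 0 (zero_mem _)
          (hS a ha.1 b hb.1 ha.2 hb.2) (by simpa)⟩ }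
  have a1 : ∀ a ∈ S, polar Q a t = 0 → a = 0 := fun a ha b => by_contra fun a0 => by
    have c1 := (R.sub_sing hx ha.2 (by rw [polar_sub_right, R.polar_self hx, hx' a ha.1, sub_zero])).2
    rw [sub_sub_cancel] at c1
    have := R.pow_four hB a0 (hW a ha.1) ht hx one_ne_zero (by simpa) b (by
      rw [polar_comm]; rintro c; simp [c] at t1)
    exact R.two (by rw [polar_comm] at this; linear_combination t1 - this)
  have : CharP F 3 := (CharP.charP_iff_prime_eq_zero Nat.prime_three).2 (by simpa)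
  have a2 : ∀ i j : ℕ, (i : F) • (x - w) + (j : F) • (x - u) ∈ S := fun i j => by
    rw [Nat.cast_smul_eq_nsmul, Nat.cast_smul_eq_nsmul]
    exact S.add_mem (S.nsmul_mem ⟨Submodule.subset_span (by simp), by simpa⟩ i)
      (S.nsmul_mem ⟨Submodule.subset_span (by simp), by simpa⟩ j)
  classical
  have := Finset.card_le_card_of_injOn (s := Finset.range 3 ×ˢ Finset.range 3)
    (t := {0, 1, -1, polar Q x t, -polar Q x t, polar Q x t ^ 3, -polar Q x t ^ 3})
    (fun i => polar Q (x - ((i.1 : F) • (x - w) + (i.2 : F) • (x - u))) t) (fun i _ => ?_)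
    fun i hi j hj e => ?_
  · have h7 : ∀ a b c d e f g : F, ({a, b, c, d, e, f, g} : Finset F).card ≤ 7 :=
      fun a b c d e f g => (Finset.card_insert_le _ _).trans (Nat.succ_le_succ Finset.card_le_six)
    simpa using this.trans (h7 ..)
  · have b1 := R.ang3 hB hn h3 (a2 i.1 i.2).2 ht
    have b2 := R.ne_two hB hn h3 (a2 i.1 i.2).2 ht
    beta_reduce
    generalize polar Q (x - ((i.1 : F) • (x - w) + (i.2 : F) • (x - u))) t = b at b1 b2
    generalize polar Q x t = c at t1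
    have : b * ((b - 1) * ((b - -1) * ((b - c) * ((b - -c) * ((b - c ^ 3) * (b - -c ^ 3)))))) = 0 := by
      have : b * (b ^ 2 - 1) * (b ^ 4 + 1) = 0 := by
        rcases b1 with a | a | a | a
        · simp [pow_eq_zero_iff] at a; simp [a]
        · simp [a]
        · exact (b2 a).elim
        · simp [a]
      linear_combination this + b * (b ^ 2 - 1) * (c ^ 4 - 1 - b ^ 2 * c ^ 2) * t1
    simpa only [mul_eq_zero, sub_eq_zero, Finset.coe_insert, Finset.coe_singleton,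
      Set.mem_insert_iff, Set.mem_singleton_iff] using this
  · have b1 := a1 _ (sub_mem (a2 i.1 i.2) (a2 j.1 j.2)) (by
      simp only [polar_sub_left Q x, sub_right_inj] at e
      rw [polar_sub_left, e, sub_self])
    have b2 : (i.2 : F) = j.2 := by_contra fun b2 => h (Submodule.mem_span_singleton.2
      ⟨(j.1 - i.1) / (i.2 - j.2), smul_right_injective V (sub_ne_zero.2 b2) (by
        simp only [smul_smul, mul_div_cancel₀ _ (sub_ne_zero.2 b2)]
        linear_combination (norm := module) -b1)⟩)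
    have b3 : (i.1 : F) = j.1 := smul_left_injective F y0 (by
      rw [b2] at b1; linear_combination (norm := module) b1)
    simp only [Finset.coe_product, Finset.coe_range, Set.mem_prod, Set.mem_Iio] at hi hj
    exact Prod.ext (CharP.natCast_injOn_Iio F 3 hi.1 hj.1 b3)
      (CharP.natCast_injOn_Iio F 3 hi.2 hj.2 b2)

theorem exists_sm (hc : ¬ commutator (O Q) ≤ K) {x w u : V} (hx : x ∈ Φ) (hw : w ∈ Φ)
    (hu : u ∈ Φ) (h1 : polar Q x w ≠ 0) (h2 : polar Q x u ≠ 0) (h4 : ¬ (x = w ∨ x = -w))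
    (h5 : ¬ (x = u ∨ x = -u)) : ∃ U, Sm K U ∧ x ∈ U ∧ w ∈ U ∧ u ∈ U := by
  by_cases a1 : polar Q x w ^ 2 = 4
  swap
  · exact R.ext hB hn hx hw h1 a1 (fun h => R.ne_two hB hn h.1 hx hw h.2) hu
      fun h => h2 (polar_comm Q x u ▸ h.1)
  by_cases a2 : polar Q x u ^ 2 = 4
  swap
  · obtain ⟨U, b1, b2, b3, b4⟩ := R.ext hB hn hx hu h2 a2 (fun h => R.ne_two hB hn h.1 hx hu h.2)
      hw fun h => h1 (polar_comm Q x w ▸ h.1)
    exact ⟨U, b1, b2, b4, b3⟩
  obtain ⟨w', hw', b1, b2⟩ := R.exists_two hw a1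
  obtain ⟨u', hu', b3, b4⟩ := R.exists_two hu a2
  have b5 : x ≠ w' := by rintro rfl; rcases b1 with rfl | rfl <;> simp at h4
  suffices h : ∃ U, Sm K U ∧ x ∈ U ∧ w' ∈ U ∧ u' ∈ U by
    obtain ⟨U, c1, c2, c3, c4⟩ := h
    exact ⟨U, c1, c2, by rcases b1 with rfl | rfl <;> simpa, by rcases b3 with rfl | rfl <;> simpa⟩
  by_cases b6 : polar Q (x - w') u' = 0
  swap
  · exact ⟨_, R.ext4 hB hx hw' hu' b2 b5 b6, Submodule.subset_span (by simp),
      Submodule.subset_span (by simp), Submodule.subset_span (by simp)⟩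
  obtain ⟨y1, y2⟩ := R.sub_sing hx hw' b2
  obtain ⟨c, hc⟩ := Submodule.mem_span_singleton.1 (R.mem_span hB hn hc
    (R.three hB (sub_ne_zero.2 b5) y1 y2 (by simp [R.Q_eq x hx])) hx hw' hu' b2 b4 b6 b5)
  obtain ⟨t, ht, c1⟩ := R.exists_ne (sub_ne_zero.2 b5) y1
  have c2 : x ∈ Submodule.span F {x, w', t} := Submodule.subset_span (by simp)
  have c3 : w' ∈ Submodule.span F {x, w', t} := Submodule.subset_span (by simp)
  exact ⟨_, R.ext4 hB hx hw' ht b2 b5 c1, c2, c3, by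
    simpa [hc] using sub_mem c2 (Submodule.smul_mem _ c (sub_mem c2 c3))⟩

end RK

end Cfsg.Lib.Sp4O
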