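import Cfsg.Agent.Lib.Sp4O.Irr

/-!
# Regular simplices in the orthogonal 5-space and alternating overgroups
-/

set_option autoImplicit false

namespace Cfsg.Lib.Sp4O

open QuadraticMap Module Matrix Cfsg.Lib.Orth Cfsg.Geo Equiv

variable {F : Type*} [Field F] {ι : Type*} {v : ι → V F} {δ : F}

/-- the differences of a family of vectors -/
def Dif (v : ι → V F) : Set (V F) := {x | ∃ i j, i ≠ j ∧ x = v i - v j}

/-- `g` permutes the differences according to `π` -/
def Act (v : ι → V F) (g : O (q5 F)) (π : Perm ι) : Prop :=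
  ∀ i j, g.1 (v i - v j) = v (π i) - v (π j)

theorem Act.one : Act v 1 1 := fun _ _ => rfl

theorem Act.mul {g g' : O (q5 F)} {π π' : Perm ι} (h : Act v g π) (h' : Act v g' π') :
    Act v (g * g') (π * π') := fun i j => by rw [O.mul_apply, h', h]; rfl

theorem Act.inv {g : O (q5 F)} {π : Perm ι} (h : Act v g π) : Act v g⁻¹ π⁻¹ := fun i j => by
  rw [O.inv_apply_eq, h]; simp

theorem Act.pow {g : O (q5 F)} {π : Perm ι} (h : Act v g π) (n : ℕ) : Act v (g ^ n) (π ^ n) := by
  induction n with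
  | zero => exact Act.one
  | succ n ih => rw [pow_succ, pow_succ]; exact ih.mul h

theorem Act.mem {g : O (q5 F)} {π : Perm ι} (h : Act v g π) : ∀ x ∈ Dif v, g.1 x ∈ Dif v := by
  rintro _ ⟨i, j, e, rfl⟩
  exact ⟨_, _, π.injective.ne e, h i j⟩

theorem ncard_Dif [Fintype ι] (v : ι → V F) :
    (Dif v).ncard ≤ Fintype.card ι * Fintype.card ι - Fintype.card ι := by
  classical
  rw [← Finset.card_univ, ← Finset.offDiag_card, ← Set.ncard_coe_finset]
  refine (Set.ncard_le_ncard (t := (fun x : ι × ι => v x.1 - v x.2) '' _) ?_).trans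
    (Set.ncard_image_le (Finset.finite_toSet _))
  rintro _ ⟨i, j, e, rfl⟩
  exact ⟨(i, j), by simpa, rfl⟩

/-- a regular simplex -/
structure Spx (v : ι → V F) (δ : F) : Prop where
  ne : δ ≠ 0
  Q_eq : ∀ i j, i ≠ j → q5 F (v i - v j) = δ

variable [DecidableEq ι]

/-- the Gram matrix of the root system of type `A` -/
def gr4 (i j k l : ι) : ℤ :=
  (if i = k then 1 else 0) + (if j = l then 1 else 0) - (if i = l then 1 else 0) -
    if j = k then 1 else 0

namespace Spx

variable (S : Spx v δ)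
include S

theorem polar_eq (i j k l : ι) : polar (q5 F) (v i - v j) (v k - v l) = δ * gr4 i j k l := by
  have e : ∀ i j, q5 F (v i) + q5 F (v j) - polar (q5 F) (v i) (v j) =
      δ * (1 - (if i = j then 1 else 0 : ℤ)) := fun i j => by
    rw [← Q_sub]
    split_ifs with h
    · simp [h]
    · simp [S.Q_eq i j h]
  simp only [polar_sub_left, polar_sub_right, gr4]
  push_cast at e ⊢
  linear_combination e i l + e j k - e i k - e j l

theorem act_refl {i j : ι} (h : i ≠ j) : Act v (refl _ (v i - v j)) (swap i j) := fun k l => by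
  have e : ∀ k, v (swap i j k) = v k - (((if i = k then 1 else 0) - if j = k then 1 else 0 : ℤ) : F)
      • (v i - v j) := fun k => by
    by_cases h1 : i = k
    · subst h1; simp [h.symm]
    by_cases h2 : j = k
    · subst h2; simp [h]
    simp [h1, h2, swap_apply_of_ne_of_ne (Ne.symm h1) (Ne.symm h2)]
  rw [Orth.refl_apply, S.Q_eq i j h, S.polar_eq, inv_mul_cancel_left₀ S.ne, e, e, gr4]
  push_cast
  module

variable [NeZero (2 : F)]

theorem eq_of (h3 : (3 : F) ≠ 0) {i j k l : ι} (h : i ≠ j) (e : v i - v j = v k - v l) :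
    i = k ∧ j = l := by
  have h1 := mul_left_cancel₀ S.ne ((S.polar_eq i j i j).symm.trans
    ((congrArg _ e).trans (S.polar_eq i j k l)))
  have h2 := two_ne_zero (α := F)
  have h4 := four_ne (F := F)
  simp only [gr4, if_pos, if_neg h, if_neg h.symm] at h1
  split_ifs at h1 <;> first | tauto | (exfalso; push_cast at h1; grind)

theorem eq_one (h3 : (3 : F) ≠ 0) [Nontrivial ι] {π : Perm ι} (h : Act v 1 π) : π = 1 :=
  Equiv.ext fun i => by
    obtain ⟨j, hj⟩ := exists_ne i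
    exact (S.eq_of h3 hj.symm (h i j)).1.symm

theorem lift [Fintype ι] (k : Subfield F) {π : Perm ι} (hπ : π ∈ alternatingGroup ι) :
    ∃ s : spGL 2 F, s.1.1 ∈ Ev (Dif v) δ k ∧ Act v (phi s) π := by
  suffices H : ∀ (n : ℕ) (l : List (Perm ι)), (∀ g ∈ l, Perm.IsSwap g) → l.length = 2 * n →
      ∃ s : spGL 2 F, s.1.1 ∈ Ev (Dif v) δ k ∧ Act v (phi s) l.prod by
    obtain ⟨l, rfl, hl⟩ := Perm.truncSwapFactors π
    obtain ⟨n, hn⟩ := (Perm.prod_list_swap_mem_alternatingGroup_iff_even_length hl).1 hπ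
    exact H n l hl (by omega)
  intro n
  induction n with intro l hl hn
  | zero => exact ⟨1, one_mem _, by simpa [List.length_eq_zero_iff.1 hn] using Act.one⟩
  | succ n ih =>
    obtain ⟨a, l, rfl⟩ := l.exists_of_length_succ hn
    obtain ⟨b, l, rfl⟩ := l.exists_of_length_succ (n := 2 * n) (by simp at hn; omega)
    obtain ⟨s, h1, h2⟩ := ih l (fun g hg => hl g (by simp [hg])) (by simp at hn; omega)
    obtain ⟨i, j, e, rfl⟩ := hl a (by simp)
    obtain ⟨i', j', e', rfl⟩ := hl b (by simp)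
    obtain ⟨g, h3, h4⟩ := exists_rr (x := v i - v j) (y := v i' - v j') S.ne
      (by rw [S.Q_eq _ _ e, S.Q_eq _ _ e', pow_two])
    refine ⟨g * s, mul_mem (show g.1.1 ∈ Ev (Dif v) δ k from
      ⟨[v i - v j, v i' - v j'], 1, 1, k.one_mem, rfl, ?_, by simp [h3]⟩) h1, ?_⟩
    · simp only [List.mem_cons, List.not_mem_nil, or_false]
      rintro _ (rfl | rfl)
      exacts [⟨_, _, e, rfl⟩, ⟨_, _, e', rfl⟩]
    · rw [map_mul, h4, List.prod_cons, List.prod_cons, ← mul_assoc]
      exact ((S.act_refl e).mul (S.act_refl e')).mul h2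

end Spx

variable [NeZero (2 : F)] [Finite F] {H : Subgroup (GL I4 F)}

omit [DecidableEq ι] in
/-- a maximal subgroup stabilising a small set of vectors is the full stabiliser -/
theorem mem_of_max (hH : IsMaximalIn (spGL 2 F) H) {D : Set (V F)}
    (h : ∀ s : spGL 2 F, s.1 ∈ H → ∀ x ∈ D, (phi s).1 x ∈ D) {x : V F} (hx : x ∈ D) (h0 : x ≠ 0)
    (hc : D.ncard < Nat.card F ^ 3) {s : spGL 2 F} (hs : ∀ x ∈ D, (phi s).1 x ∈ D) : s.1 ∈ H := by
  let M : Subgroup (spGL 2 F) :=
    { carrier := {s | ∀ x ∈ D, (phi s).1 x ∈ D}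
      one_mem' := fun x hx => by rwa [map_one]
      mul_mem' := fun {a b} ha hb x hx => by rw [map_mul, O.mul_apply]; exact ha _ (hb x hx)
      inv_mem' := fun {a} ha x hx => by
        obtain ⟨y, hy, rfl⟩ := (((Set.toFinite D).injOn_iff_bijOn_of_mapsTo ha).1
          (phi a).1.injective.injOn).surjOn hx
        rwa [map_inv, O.inv_apply_apply] }
  rcases hH.2 (M.map (Subgroup.subtype _)) (fun g hg => ⟨⟨g, hH.1.le hg⟩, h _ hg, rfl⟩)
    (Subgroup.map_subtype_le _) with e | e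
  · exact e ▸ ⟨s, hs, rfl⟩
  · refine absurd (card_le_of_inv (fun g => ?_) hx h0) hc.not_ge
    obtain ⟨t, ht, e'⟩ : g.1 ∈ M.map (Subgroup.subtype _) := e.ge g.2
    exact Subtype.ext e' ▸ ht

theorem Spx.mem [Fintype ι] [Nontrivial ι] (S : Spx v δ) (hH : IsMaximalIn (spGL 2 F) H)
    (h : ∀ s : spGL 2 F, s.1 ∈ H → ∀ x ∈ Dif v, (phi s).1 x ∈ Dif v)
    (hc : Fintype.card ι * Fintype.card ι - Fintype.card ι < Nat.card F ^ 3) {π : Perm ι}
    (hπ : π ∈ alternatingGroup ι) : ∃ s : spGL 2 F, s.1 ∈ H ∧ Act v (phi s) π := by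
  obtain ⟨s, -, hs⟩ := S.lift ⊤ hπ
  obtain ⟨i, j, e⟩ := exists_pair_ne ι
  exact ⟨s, mem_of_max hH h ⟨i, j, e, rfl⟩ (fun e' => S.ne (by rw [← S.Q_eq i j e, e', map_zero]))
    ((ncard_Dif v).trans_lt hc) hs.mem, hs⟩

end Cfsg.Lib.Sp4O
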